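/-
`p`-groups with a prime order automorphism acting irreducibly modulo fixed central elements.

A `Datum` is a finite group `P` with an automorphism `θ` and an equivariant map onto a field
`K = F_p(λ)`, `θ` acting on `K` as multiplication by `λ` (of prime order `q`), with central
kernel fixed by `θ`.  It is tight when no proper invariant subgroup maps onto `K`.

Main results (namespace `Cfsg.Agent.SchmidtUniversal`):
* `subring_eq_top` : a subring containing `λ` is everything
* `Datum.card_le`  : `|P| ≤ p^a`, or `p^(3a/2)` for even `a`, when tight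
-/
import Mathlib
import Cfsg.Agent.EqLemmas

set_option autoImplicit false
set_option linter.unusedSectionVars false

open scoped commutatorElement

namespace Cfsg.Agent.SchmidtUniversal

/-- The exponent `a₀`. -/
def bnd (a : ℕ) : ℕ := if a % 2 = 1 then a else 3 * a / 2

structure Datum {K : Type*} [Field K] (lam : K) (P : Type*) [Group P] where
  θ : P ≃* P
  π : P →* Multiplicative K
  surj : Function.Surjective π
  equivariant : ∀ x, (π (θ x)).toAdd = lam * (π x).toAdd
  central : ∀ z, π z = 1 → z ∈ Subgroup.center P ∧ θ z = z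

namespace Datum

variable {K : Type*} [Field K] {lam : K} {P : Type*} [Group P]

/-- No proper invariant subgroup maps onto `K`. -/
def Tight (d : Datum lam P) : Prop :=
  ∀ D : Subgroup P, (∀ x ∈ D, d.θ x ∈ D) → (∀ v, ∃ x ∈ D, d.π x = v) → D = ⊤

end Datum

/-- The standing assumptions on the field. -/
structure FieldHyp (p q a : ℕ) (K : Type*) [Field K] (lam : K) : Prop where
  hp : p.Prime
  hq : q.Prime
  hpq : p ≠ q
  card : Nat.card K = p ^ a
  ord : orderOf lam = q
  ha : a = orderOf (p : ZMod q)

namespace FieldHyp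

variable {p q a : ℕ} {K : Type*} [Field K] {lam : K} (h : FieldHyp p q a K lam)

include h

theorem a_pos : 0 < a := by
  have := Fact.mk h.hq
  have hne : (p : ZMod q) ≠ 0 := fun e => by
    rw [ZMod.natCast_eq_zero_iff] at e
    exact h.hpq ((Nat.prime_dvd_prime_iff_eq h.hq h.hp).mp e).symm
  rw [h.ha, pos_iff_ne_zero, orderOf_ne_zero_iff]
  simpa using (Units.coeHom (ZMod q)).isOfFinOrder (isOfFinOrder_of_finite (Units.mk0 _ hne))

theorem finite : Finite K := Nat.finite_of_card_ne_zero (by rw [h.card]; exact pow_ne_zero _ h.hp.ne_zero)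

theorem charP : CharP K p := by
  have := h.finite
  have : Fintype K := Fintype.ofFinite K
  obtain ⟨r, hr⟩ := CharP.exists K
  obtain ⟨n, hn, hK⟩ := FiniteField.card K r
  rw [← Nat.card_eq_fintype_card, h.card] at hK
  have : r ∣ p ^ a := hK ▸ dvd_pow_self r n.pos.ne'
  exact ((Nat.prime_dvd_prime_iff_eq hn h.hp).mp (hn.dvd_of_dvd_pow this)) ▸ hr

theorem lam_ne_zero : lam ≠ 0 := fun e => h.hq.ne_zero (by rw [← h.ord, e, orderOf_zero])

theorem lam_ne_one : lam ≠ 1 := fun e => h.hq.ne_one (by rw [← h.ord, e, orderOf_one])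

theorem subring_eq_top (S : Subring K) (hS : lam ∈ S) : S = ⊤ := by
  classical
  have := h.finite
  have := Fact.mk h.hq
  have := h.charP
  have := Fact.mk h.hp
  letI : Field S := (Finite.isField_of_domain S).toField
  letI : Fintype S := Fintype.ofFinite S
  obtain ⟨b, -, hb⟩ := FiniteField.card S p
  have hl : (⟨lam, hS⟩ : S) ^ (Fintype.card S - 1) = 1 :=
    FiniteField.pow_card_sub_one_eq_one _ fun e => h.lam_ne_zero (congrArg Subtype.val e)
  have hl' : lam ^ (p ^ (b : ℕ) - 1) = 1 := by
    have := congrArg Subtype.val hl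
    rwa [hb] at this
  have hdvd : a ∣ (b : ℕ) := by
    rw [h.ha, orderOf_dvd_iff_pow_eq_one, ← Nat.cast_pow, ← sub_eq_zero, ← Nat.cast_one,
      ← Nat.cast_sub (Nat.one_le_pow _ _ h.hp.pos), ZMod.natCast_eq_zero_iff, ← h.ord]
    exact orderOf_dvd_of_pow_eq_one hl'
  refine SetLike.coe_injective (Set.eq_of_subset_of_ncard_le (Set.subset_univ _) ?_)
  rw [Subring.coe_top, Set.ncard_univ, h.card, ← Nat.card_coe_set_eq, show Nat.card (S : Set K) = Fintype.card S from
    Nat.card_eq_fintype_card, hb]
  exact Nat.pow_le_pow_right h.hp.pos (Nat.le_of_dvd b.pos hdvd)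

theorem pow_half (heven : a % 2 = 0) : lam ^ (p ^ (a / 2)) = lam⁻¹ := by
  have := Fact.mk h.hq
  have h2 : ((p : ZMod q) ^ (a / 2)) * ((p : ZMod q) ^ (a / 2)) = 1 := by
    rw [← pow_add, show a / 2 + a / 2 = a by omega, h.ha, pow_orderOf_eq_one]
  have hne : (p : ZMod q) ^ (a / 2) ≠ 1 := fun e => by
    have hd := orderOf_dvd_of_pow_eq_one e
    rw [← h.ha] at hd
    have := h.a_pos
    have := Nat.le_of_dvd (by omega) hd
    omega
  have hm : ((p ^ (a / 2) + 1 : ℕ) : ZMod q) = 0 := by
    push_cast
    rw [(mul_self_eq_one_iff.mp h2).resolve_left hne]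
    ring
  rw [ZMod.natCast_eq_zero_iff, ← h.ord, orderOf_dvd_iff_pow_eq_one, pow_succ] at hm
  exact eq_inv_of_mul_eq_one_left hm

end FieldHyp

namespace Datum

variable {p q a : ℕ} {K : Type*} [Field K] {lam : K} {P : Type*} [Group P] [Finite P]

theorem card_le (d : Datum lam P) (h : FieldHyp p q a K lam) (hd : d.Tight) :
    Nat.card P ≤ p ^ bnd a := by
  classical
  have := h.finite
  have := h.charP
  have := Fact.mk h.hp
  have := Fact.mk h.hq
  -- the commutator pairing
  have hker : ∀ x z, d.π z = 1 → x * z = z * x := fun x z hz => Subgroup.mem_center_iff.mp (d.central z hz).1 x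
  have hsec : ∀ v : K, ∃ x, (d.π x).toAdd = v := fun v => by
    obtain ⟨x, hx⟩ := d.surj (Multiplicative.ofAdd v); exact ⟨x, by rw [hx, toAdd_ofAdd]⟩
  choose s hs using hsec
  set c : K → K → P := fun u v => ⁅s u, s v⁆ with hc
  have hindep : ∀ x y, ⁅x, y⁆ = c (d.π x).toAdd (d.π y).toAdd := by
    have key : ∀ A B z w : P, d.π z = 1 → d.π w = 1 → ⁅A * z, B * w⁆ = ⁅A, B⁆ := by
      intro A B z w hz hw
      simp only [commutatorElement_def, mul_inv_rev]
      calc A * z * (B * w) * (z⁻¹ * A⁻¹) * (w⁻¹ * B⁻¹)
          = A * (z * (B * w)) * z⁻¹ * A⁻¹ * (w⁻¹ * B⁻¹) := by group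
        _ = A * ((B * w) * z) * z⁻¹ * A⁻¹ * (w⁻¹ * B⁻¹) := by rw [hker (B * w) z hz]
        _ = A * B * (w * A⁻¹) * w⁻¹ * B⁻¹ := by group
        _ = A * B * (A⁻¹ * w) * w⁻¹ * B⁻¹ := by rw [hker A⁻¹ w hw]
        _ = _ := by group
    have hone : ∀ x, d.π ((s (d.π x).toAdd)⁻¹ * x) = 1 := fun x => by
      rw [map_mul, map_inv, inv_mul_eq_one]; exact Multiplicative.toAdd.injective (hs _)
    intro x y
    have := key (s (d.π x).toAdd) (s (d.π y).toAdd) _ _ (hone x) (hone y)
    rwa [mul_inv_cancel_left, mul_inv_cancel_left] at this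
  have hcker : ∀ u v, d.π (c u v) = 1 := fun u v => by
    rw [map_commutatorElement, commutatorElement_eq_one_iff_mul_comm, mul_comm]
  have haddl : ∀ u u' v, c (u + u') v = c u v * c u' v := by
    intro u u' v
    have e : c (u + u') v = ⁅s u * s u', s v⁆ := by rw [hindep, map_mul, toAdd_mul, hs, hs, hs]
    rw [e, hc]
    simp only [commutatorElement_def, mul_inv_rev]
    calc s u * s u' * s v * ((s u')⁻¹ * (s u)⁻¹) * (s v)⁻¹
        = s u * (⁅s u', s v⁆ * (s v * (s u)⁻¹ * (s v)⁻¹)) := by rw [commutatorElement_def]; group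
      _ = s u * ((s v * (s u)⁻¹ * (s v)⁻¹) * ⁅s u', s v⁆) := by rw [← hker _ _ (hcker u' v)]
      _ = _ := by rw [commutatorElement_def]; group
  have hanti : ∀ u v, c v u = (c u v)⁻¹ := fun u v => by rw [hc, commutatorElement_inv]
  have haddr : ∀ u v v', c u (v + v') = c u v * c u v' := by
    intro u v v'
    rw [hanti (v + v') u, haddl, mul_inv_rev, ← hanti, ← hanti, hker _ _ (hcker u v)]
  have hzl : ∀ v, c 0 v = 1 := fun v => by
    have := haddl 0 0 v
    rwa [add_zero, left_eq_mul] at this
  have hzr : ∀ v, c v 0 = 1 := fun v => by rw [hanti, hzl, inv_one]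
  have hnegl : ∀ u v, c (-u) v = (c u v)⁻¹ := fun u v =>
    eq_inv_of_mul_eq_one_left (by rw [← haddl, neg_add_cancel, hzl])
  have hnegr : ∀ u v, c u (-v) = (c u v)⁻¹ := fun u v =>
    eq_inv_of_mul_eq_one_left (by rw [← haddr, neg_add_cancel, hzr])
  have hinv : ∀ u v, c (lam * u) (lam * v) = c u v := fun u v => by
    have := map_commutatorElement d.θ (s u) (s v)
    rw [(d.central _ (hcker u v)).2, hindep (d.θ (s u)), d.equivariant, d.equivariant, hs, hs] at this
    exact this.symm
  have hcomm : ∀ u, c u u = 1 := fun u => commutatorElement_self _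
  -- adjoint pairs
  let S2 : Subring (K × K) :=
    { carrier := {g | ∀ u v, c (g.1 * u) v = c u (g.2 * v)}
      mul_mem' := fun {g g'} hg hg' u v => by
        simp only [Prod.fst_mul, Prod.snd_mul]
        rw [mul_assoc, hg, hg', ← mul_assoc, mul_comm g'.2]
      one_mem' := fun u v => by simp
      add_mem' := fun {g g'} hg hg' u v => by
        simp only [Prod.fst_add, Prod.snd_add, add_mul]
        rw [haddl, haddr, hg, hg']
      zero_mem' := fun u v => by simp [hzl, hzr]
      neg_mem' := fun {g} hg u v => by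
        simp only [Prod.fst_neg, Prod.snd_neg, neg_mul]
        rw [hnegl, hnegr, hg] }
  have hlam : ((lam, lam⁻¹) : K × K) ∈ S2 := fun u v => by
    show c (lam * u) v = c u (lam⁻¹ * v)
    rw [← hinv u (lam⁻¹ * v), ← mul_assoc, mul_inv_cancel₀ h.lam_ne_zero, one_mul]
  let φ : Multiplicative K →* P :=
    { toFun := fun v => c 1 v.toAdd
      map_one' := hzr 1
      map_mul' := fun v v' => haddr 1 _ _ }
  -- the kernel of `π` is the image of the pairing
  have himg : ∀ u v, c u v ∈ φ.range ∧ (a % 2 = 1 → c u v = 1) := by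
    by_cases htriv : ∀ u v, c u v = 1
    · exact fun u v => ⟨htriv u v ▸ one_mem _, fun _ => htriv u v⟩
    push Not at htriv
    obtain ⟨u₀, v₀, hne⟩ := htriv
    by_cases heven : a % 2 = 0
    · set σ := iterateFrobenius K p (a / 2) with hσ
      have hσl : σ lam = lam⁻¹ := by rw [hσ, iterateFrobenius_def, h.pow_half heven]
      have htop := h.subring_eq_top (S2.comap ((RingHom.id K).prod σ))
        (by show (lam, σ lam) ∈ S2; rw [hσl]; exact hlam)
      intro u v
      refine ⟨⟨Multiplicative.ofAdd (σ u * v), ?_⟩, fun e => by omega⟩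
      have hu : (u, σ u) ∈ S2 := (htop ▸ Subring.mem_top u : u ∈ S2.comap ((RingHom.id K).prod σ))
      show c 1 (σ u * v) = c u v
      rw [← hu 1 v, mul_one]
    · exfalso
      have hfst : Function.Injective ((RingHom.fst K K).comp S2.subtype) := by
        rw [injective_iff_map_eq_zero]
        rintro ⟨⟨g, g'⟩, hg⟩ (rfl : g = 0)
        by_contra hg'
        have hg'0 : g' ≠ 0 := fun e => hg' (Subtype.ext (Prod.ext rfl e))
        have := hg u₀ (g'⁻¹ * v₀)
        simp only [zero_mul, hzl, ← mul_assoc, mul_inv_cancel₀ hg'0, one_mul] at this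
        exact hne this.symm
      have hsurj : Function.Surjective ((RingHom.fst K K).comp S2.subtype) := by
        rw [← RingHom.range_eq_top]
        exact h.subring_eq_top _ ⟨⟨_, hlam⟩, rfl⟩
      let e := RingEquiv.ofBijective _ ⟨hfst, hsurj⟩
      let τ : K →+* K := ((RingHom.snd K K).comp S2.subtype).comp e.symm.toRingHom
      have hτ : τ lam = lam⁻¹ := by
        show ((e.symm lam : S2) : K × K).2 = _
        rw [show e.symm lam = ⟨_, hlam⟩ from e.injective (by rw [RingEquiv.apply_symm_apply]; rfl)]
      letI := ZMod.algebra K p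
      let τa : K ≃ₐ[ZMod p] K := AlgEquiv.ofBijective
        { τ with commutes' := fun r => RingHom.congr_fun (RingHom.ext_zmod (τ.comp (algebraMap _ K)) _) r }
        (Finite.injective_iff_bijective.mp τ.injective)
      obtain ⟨n, hn⟩ := (FiniteField.bijective_frobeniusAlgEquivOfAlgebraic_pow (ZMod p) K).2 τa
      have hn' : lam ^ p ^ (n : ℕ) = lam⁻¹ := by
        rw [← hτ]
        have := AlgEquiv.congr_fun hn lam
        simp only [FiniteField.coe_frobeniusAlgEquivOfAlgebraic_iterate, AlgEquiv.coe_pow] at this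
        rw [ZMod.card] at this
        exact this
      have hd' : q ∣ p ^ (n : ℕ) + 1 := by
        rw [← h.ord, orderOf_dvd_iff_pow_eq_one, pow_succ, hn', inv_mul_cancel₀ h.lam_ne_zero]
      rw [← ZMod.natCast_eq_zero_iff, Nat.cast_add, Nat.cast_pow, Nat.cast_one] at hd'
      have h2n : a ∣ 2 * (n : ℕ) := by
        rw [h.ha, orderOf_dvd_iff_pow_eq_one, pow_mul', eq_neg_of_add_eq_zero_left hd', neg_one_sq]
      have han : a ∣ (n : ℕ) := (Nat.Coprime.dvd_of_dvd_mul_left (Nat.coprime_two_right.mpr (Nat.odd_iff.mpr (by omega))) h2n)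
      rw [orderOf_dvd_iff_pow_eq_one.mp (h.ha ▸ han), one_add_one_eq_two] at hd'
      have hq2 : q = 2 := (Nat.prime_dvd_prime_iff_eq h.hq Nat.prime_two).mp
        ((ZMod.natCast_eq_zero_iff 2 q).mp (by exact_mod_cast hd'))
      subst hq2
      have ha1 : a = 1 := by
        rw [h.ha, orderOf_eq_one_iff]
        have : (p : ZMod 2) ≠ 0 := fun e => by
          rw [ZMod.natCast_eq_zero_iff] at e
          exact h.hpq ((Nat.prime_dvd_prime_iff_eq Nat.prime_two h.hp).mp e).symm
        have hall : ∀ z : ZMod 2, z = 0 ∨ z = 1 := fun z => by fin_cases z; exacts [Or.inl rfl, Or.inr rfl]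
        exact (hall _).resolve_left this
      have hbot : ∀ u : K, ∃ m : ℕ, u = m := by
        intro u
        have hb : Function.Bijective (algebraMap (ZMod p) K) := by
          refine (Nat.bijective_iff_injective_and_card _).mpr ⟨(algebraMap (ZMod p) K).injective, ?_⟩
          rw [Nat.card_zmod, h.card, ha1, pow_one]
        obtain ⟨z, rfl⟩ := hb.2 u
        exact ⟨z.val, by rw [← map_natCast (algebraMap (ZMod p) K), ZMod.natCast_zmod_val]⟩
      have hnat : ∀ (m : ℕ) (v : K), c m v = c 1 v ^ m := by
        intro m v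
        induction m with
        | zero => simp [hzl]
        | succ m ihm => rw [Nat.cast_succ, haddl, ihm, pow_succ]
      obtain ⟨m, rfl⟩ := hbot u₀
      obtain ⟨m', rfl⟩ := hbot v₀
      refine hne ?_
      rw [hnat, hanti, hnat, hcomm, one_pow, inv_one, one_pow]
  have hrange : φ.range ≤ d.π.ker := by
    rintro _ ⟨v, rfl⟩; exact hcker _ _
  have hRc : φ.range ≤ Subgroup.center P := fun x hx => (d.central x (hrange hx)).1
  haveI : φ.range.Normal := ⟨fun n hn g => by
    rwa [Subgroup.mem_center_iff.mp (hRc hn) g, mul_inv_cancel_right]⟩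
  have hab : ∀ x y : P ⧸ φ.range, x * y = y * x := by
    intro x y
    induction x using QuotientGroup.induction_on with
    | H x =>
      induction y using QuotientGroup.induction_on with
      | H y =>
        rw [← commutatorElement_eq_one_iff_mul_comm, ← QuotientGroup.mk'_apply, ← QuotientGroup.mk'_apply,
          ← map_commutatorElement, QuotientGroup.mk'_apply, QuotientGroup.eq_one_iff, hindep]
        exact (himg _ _).1
  let g : P →* P ⧸ φ.range :=
    { toFun := fun x => QuotientGroup.mk (x⁻¹ * d.θ x)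
      map_one' := by simp
      map_mul' := fun x y => by
        simp only [mul_inv_rev, map_mul, QuotientGroup.mk_mul, QuotientGroup.mk_inv]
        generalize (QuotientGroup.mk x : P ⧸ φ.range) = A
        generalize (QuotientGroup.mk y : P ⧸ φ.range) = B
        generalize (QuotientGroup.mk (d.θ x) : P ⧸ φ.range) = A'
        generalize (QuotientGroup.mk (d.θ y) : P ⧸ φ.range) = B'
        rw [show B⁻¹ * A⁻¹ * (A' * B') = B⁻¹ * (A⁻¹ * A') * B' by group, hab B⁻¹ (A⁻¹ * A')]
        group }
  have hgs : Function.Surjective g := by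
    have htop : Subgroup.closure (Set.range fun x => x⁻¹ * d.θ x) = ⊤ := by
      refine hd _ (fun x hx => ?_) fun v => ?_
      · induction hx using Subgroup.closure_induction with
        | mem z hz =>
          obtain ⟨x, rfl⟩ := hz
          exact Subgroup.subset_closure ⟨d.θ x, by simp [map_mul, map_inv]⟩
        | one => simp
        | mul a b _ _ iha ihb => rw [map_mul]; exact mul_mem iha ihb
        | inv a _ iha => rw [map_inv]; exact inv_mem iha
      · refine ⟨_, Subgroup.subset_closure ⟨s (v.toAdd / (lam - 1)), rfl⟩, ?_⟩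
        apply Multiplicative.toAdd.injective
        rw [map_mul, map_inv, toAdd_mul, toAdd_inv, d.equivariant, hs]
        field_simp [sub_ne_zero.mpr h.lam_ne_one]
        ring
    intro y
    induction y using QuotientGroup.induction_on with
    | H y =>
      have hy : y ∈ (g.range).comap (QuotientGroup.mk' φ.range) := by
        have hle : Subgroup.closure (Set.range fun x => x⁻¹ * d.θ x) ≤ g.range.comap (QuotientGroup.mk' φ.range) := by
          rw [Subgroup.closure_le]
          rintro _ ⟨x, rfl⟩
          exact ⟨x, rfl⟩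
        exact hle (htop ▸ Subgroup.mem_top y)
      exact hy
  have hkerg : φ.range = g.ker := by
    refine Subgroup.eq_of_le_of_card_ge (fun x hx => ?_) (le_of_eq ?_)
    · rw [MonoidHom.mem_ker]
      show QuotientGroup.mk (x⁻¹ * d.θ x) = 1
      rw [(d.central x (hrange hx)).2, inv_mul_cancel, QuotientGroup.mk_one]
    · have h1 := g.ker.index_mul_card
      have h2 := φ.range.index_mul_card
      rw [Subgroup.index_ker, MonoidHom.range_eq_top.mpr hgs, Subgroup.card_top,
        ← Subgroup.index_eq_card, ← h2] at h1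
      exact Nat.eq_of_mul_eq_mul_left (Nat.pos_of_ne_zero Subgroup.index_ne_zero_of_finite) h1
  have hkeq : d.π.ker ≤ φ.range := fun z hz => by
    rw [hkerg, MonoidHom.mem_ker]
    show QuotientGroup.mk (z⁻¹ * d.θ z) = 1
    rw [(d.central z hz).2, inv_mul_cancel, QuotientGroup.mk_one]
  have hcard : Nat.card P ≤ p ^ a * Nat.card φ.range := by
    rw [← d.π.ker.index_mul_card, Subgroup.index_ker, MonoidHom.range_eq_top.mpr d.surj,
      Subgroup.card_top, show Nat.card (Multiplicative K) = p ^ a from h.card]
    exact Nat.mul_le_mul_left _ (Nat.le_of_dvd Nat.card_pos (Subgroup.card_dvd_of_le hkeq))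
  refine hcard.trans ?_
  by_cases heven : a % 2 = 0
  · have hφ : ∀ v : K, φ (Multiplicative.ofAdd (v ^ (p ^ (a / 2) + 1))) = 1 := by
      intro v
      have hσl : iterateFrobenius K p (a / 2) lam = lam⁻¹ := by rw [iterateFrobenius_def, h.pow_half heven]
      have htop := h.subring_eq_top (S2.comap ((RingHom.id K).prod (iterateFrobenius K p (a / 2))))
        (by show (lam, iterateFrobenius K p (a / 2) lam) ∈ S2; rw [hσl]; exact hlam)
      have hv : (v, iterateFrobenius K p (a / 2) v) ∈ S2 :=
        (htop ▸ Subring.mem_top v : v ∈ S2.comap ((RingHom.id K).prod (iterateFrobenius K p (a / 2))))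
      show c 1 (v ^ (p ^ (a / 2) + 1)) = 1
      rw [pow_succ, ← iterateFrobenius_def, ← hv 1 v, mul_one, hcomm]
    set N := p ^ (a / 2) with hN
    have hsq : p ^ a = N * N := by rw [hN, ← pow_add, show a / 2 + a / 2 = a by omega]
    have hN1 : 1 ≤ N := Nat.one_le_pow _ _ h.hp.pos
    have hk : N ≤ Nat.card φ.ker := by
      let pw : Kˣ →* Kˣ := powMonoidHom (N + 1)
      have hpw : Nat.card pw.range = N - 1 := by
        have h1 : Nat.card Kˣ = (N - 1) * (N + 1) := by
          rw [Nat.card_units, h.card, hsq, mul_comm (N - 1), ← Nat.sq_sub_sq, sq, one_pow]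
        rw [IsCyclic.card_powMonoidHom_range, h1, Nat.gcd_mul_left_left, Nat.mul_div_cancel _ (Nat.succ_pos N)]
      let f : Option pw.range → φ.ker := fun o => match o with
        | none => ⟨1, one_mem _⟩
        | some u => ⟨Multiplicative.ofAdd ((u : Kˣ) : K), by
            obtain ⟨w, hw⟩ := u.2
            have := hφ (w : K)
            rw [MonoidHom.mem_ker, ← hw]
            simpa [pw] using this⟩
      have hf : Function.Injective f := by
        rintro (_ | u) (_ | u') e
        · rfl
        · exact absurd (congrArg (fun z : φ.ker => Multiplicative.toAdd (z : Multiplicative K)) e).symm (u' : Kˣ).ne_zero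
        · exact absurd (congrArg (fun z : φ.ker => Multiplicative.toAdd (z : Multiplicative K)) e) (u : Kˣ).ne_zero
        · exact congrArg some (Subtype.ext (Units.ext (congrArg (fun z : φ.ker => Multiplicative.toAdd (z : Multiplicative K)) e)))
      have := Nat.card_le_card_of_injective f hf
      rw [Finite.card_option, hpw] at this
      omega
    have hprod : Nat.card φ.range * Nat.card φ.ker = N * N := by
      rw [← hsq, ← h.card, ← show Nat.card (Multiplicative K) = Nat.card K from rfl,
        ← φ.ker.index_mul_card, Subgroup.index_ker]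
    have hr : Nat.card φ.range ≤ N := by
      by_contra hlt
      push Not at hlt
      have := Nat.mul_lt_mul_of_lt_of_le hlt hk (by omega)
      omega
    rw [bnd, if_neg (by omega), show 3 * a / 2 = a + a / 2 by omega, pow_add p a]
    exact Nat.mul_le_mul_left _ hr
  · have hbot : φ.range = ⊥ := by
      rw [eq_bot_iff]
      rintro _ ⟨v, rfl⟩
      exact Subgroup.mem_bot.mpr ((himg 1 _).2 (by omega))
    rw [hbot, Subgroup.card_bot, mul_one, bnd, if_pos (by omega)]

end Datum

end Cfsg.Agent.SchmidtUniversal
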