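/-
The `Datum` of a minimal non-`p`-nilpotent group.

Main results (namespace `Cfsg.Agent.SchmidtUniversal`):
* `exists_field_iso` : an irreducible automorphism of prime order of an elementary abelian group
* `exists_datum`     : structure of a minimal non-`p`-nilpotent group
-/
import Cfsg.Agent.Lib.SchmidtUniversal.Bound
import Cfsg.Agent.S0132
import Cfsg.Agent.S0577
import Cfsg.Agent.EqLemmas

set_option autoImplicit false
set_option linter.unusedSectionVars false

open scoped commutatorElement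

namespace Cfsg.Agent.SchmidtUniversal

/-- An irreducible operator of order `q` on an elementary abelian `p`-group is a scalar in `K`. -/
theorem exists_field_iso {p q a : ℕ} {K : Type*} [Field K] {lam : K} (h : FieldHyp p q a K lam)
    {V : Type*} [AddCommGroup V] [Finite V] [Nontrivial V] (f : AddMonoid.End V)
    (hp0 : ∀ v : V, p • v = 0) (hfq : f ^ q = 1) (hf1 : f ≠ 1)
    (hirr : ∀ W : AddSubgroup V, (∀ v ∈ W, f v ∈ W) → W = ⊥ ∨ W = ⊤) :
    ∃ (j : ℕ) (e : V →+ K), ¬ q ∣ j ∧ Function.Bijective e ∧ ∀ v, e ((f ^ j) v) = lam * e v := by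
  classical
  have := h.finite
  have := Fact.mk h.hp
  have := Fact.mk h.hq
  set R : Subring (AddMonoid.End V) := Subring.closure {f}
  have hfR : f ∈ R := Subring.subset_closure rfl
  have hcomm : ∀ s ∈ R, Commute s f := by
    intro s hs
    induction hs using Subring.closure_induction with
    | mem z hz => rw [Set.mem_singleton_iff.mp hz]
    | zero => exact Commute.zero_left _
    | one => exact Commute.one_left _
    | add a b _ _ ha hb => exact ha.add_left hb
    | neg a _ ha => exact ha.neg_left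
    | mul a b _ _ ha hb => exact ha.mul_left hb
  have hcomm2 : ∀ s ∈ R, ∀ t ∈ R, Commute s t := by
    intro s hs t ht
    induction ht using Subring.closure_induction with
    | mem z hz => rw [Set.mem_singleton_iff.mp hz]; exact hcomm s hs
    | zero => exact Commute.zero_right _
    | one => exact Commute.one_right _
    | add a b _ _ ha hb => exact ha.add_right hb
    | neg a _ ha => exact ha.neg_right
    | mul a b _ _ ha hb => exact ha.mul_right hb
  have : Finite (AddMonoid.End V) := Finite.of_injective (fun s => (s : V → V)) DFunLike.coe_injective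
  letI : CommRing R := { (inferInstance : Ring R) with mul_comm := fun s t => Subtype.ext (hcomm2 _ s.2 _ t.2).eq }
  have hinj : ∀ s : R, s ≠ 0 → ∀ v, (s : AddMonoid.End V) v = 0 → v = 0 := by
    intro s hs v hv
    let W : AddSubgroup V := (s : AddMonoid.End V).ker
    rcases hirr W (fun w hw => by
      show (s : AddMonoid.End V) (f w) = 0
      have := congrArg (fun g : AddMonoid.End V => g w) (hcomm _ s.2).eq
      simp only [AddMonoid.End.coe_mul, Function.comp_apply] at this
      rw [this, show (s : AddMonoid.End V) w = 0 from hw, map_zero]) with hW | hW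
    · have : v ∈ W := hv
      rw [hW] at this
      exact this
    · refine absurd (Subtype.ext (AddMonoidHom.ext fun w => ?_)) hs
      have : w ∈ W := hW ▸ AddSubgroup.mem_top w
      exact this
  obtain ⟨v₀, hv₀⟩ := exists_ne (0 : V)
  have : Nontrivial R := ⟨⟨1, 0, fun e => hv₀ (congrArg (fun g : R => (g : AddMonoid.End V) v₀) e)⟩⟩
  have : NoZeroDivisors R := ⟨fun {s t} hst => by
    by_contra hc
    push Not at hc
    refine hv₀ (hinj t hc.2 v₀ (hinj s hc.1 _ ?_))
    exact congrArg (fun g : R => (g : AddMonoid.End V) v₀) hst⟩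
  have : IsDomain R := NoZeroDivisors.to_isDomain R
  letI : Field R := (Finite.isField_of_domain R).toField
  letI : Fintype R := Fintype.ofFinite R
  have hpR : (p : R) = 0 := Subtype.ext (DFunLike.ext _ _ fun v => by
    rw [Subring.coe_natCast, AddMonoid.End.natCast_apply]; exact hp0 v)
  have : CharP R p := (CharP.charP_iff_prime_eq_zero h.hp).mpr hpR
  set g : R := ⟨f, hfR⟩
  have hg : orderOf g = q := orderOf_eq_prime (Subtype.ext hfq) fun e => hf1 (congrArg Subtype.val e)
  -- the cardinality of `R`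
  obtain ⟨b, -, hb⟩ := FiniteField.card R p
  have hab : a ∣ (b : ℕ) := by
    rw [h.ha, orderOf_dvd_iff_pow_eq_one, ← Nat.cast_pow, ← sub_eq_zero, ← Nat.cast_one,
      ← Nat.cast_sub (Nat.one_le_pow _ _ h.hp.pos), ZMod.natCast_eq_zero_iff, ← hg]
    refine orderOf_dvd_of_pow_eq_one ?_
    rw [← hb]
    exact FiniteField.pow_card_sub_one_eq_one g fun e => h.hq.ne_zero (by rw [← hg, e, orderOf_zero])
  have hga : g ^ p ^ a = g := by
    have hd : q ∣ p ^ a - 1 := by
      rw [← ZMod.natCast_eq_zero_iff, Nat.cast_sub (Nat.one_le_pow _ _ h.hp.pos), Nat.cast_pow, h.ha,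
        pow_orderOf_eq_one, Nat.cast_one, sub_self]
    conv_lhs => rw [show p ^ a = (p ^ a - 1) + 1 from (Nat.sub_add_cancel (Nat.one_le_pow _ _ h.hp.pos)).symm]
    rw [pow_succ, orderOf_dvd_iff_pow_eq_one.mp (hg.symm ▸ hd), one_mul]
  have hall : ∀ s : R, s ^ p ^ a = s := by
    rintro ⟨s, hs⟩
    induction hs using Subring.closure_induction with
    | mem z hz => cases Set.mem_singleton_iff.mp hz; exact hga
    | zero => exact zero_pow (pow_ne_zero _ h.hp.ne_zero)
    | one => exact one_pow _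
    | add u v hu hv iu iv =>
      show (⟨u, hu⟩ + ⟨v, hv⟩ : R) ^ p ^ a = _
      rw [add_pow_char_pow, iu, iv]; rfl
    | neg u hu iu =>
      show (iterateFrobenius R p a) (-⟨u, hu⟩) = _
      rw [map_neg, iterateFrobenius_def, iu]; rfl
    | mul u v hu hv iu iv =>
      show (⟨u, hu⟩ * ⟨v, hv⟩ : R) ^ p ^ a = _
      rw [mul_pow, iu, iv]; rfl
  have hRcard : Fintype.card R = p ^ a := by
    refine le_antisymm ?_ (hb ▸ Nat.pow_le_pow_right h.hp.pos (Nat.le_of_dvd b.pos hab))
    have h1 : 1 < p ^ a := Nat.one_lt_pow h.a_pos.ne' h.hp.one_lt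
    have hsub : (Finset.univ : Finset R) ⊆ (Polynomial.X ^ p ^ a - Polynomial.X : Polynomial R).roots.toFinset :=
      fun s _ => Multiset.mem_toFinset.mpr
        ((Polynomial.mem_roots (FiniteField.X_pow_card_sub_X_ne_zero R h1)).mpr (by simp [hall s]))
    exact (Finset.card_le_card hsub).trans ((Multiset.toFinset_card_le _).trans
      ((Polynomial.card_roots' _).trans (FiniteField.X_pow_card_sub_X_natDegree_eq R h1).le))
  letI : Fintype K := Fintype.ofFinite K
  let ι : R ≃+* K := FiniteField.ringEquivOfCardEq (by rw [hRcard, ← Nat.card_eq_fintype_card, h.card])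
  have hι : orderOf (ι g) = q := by rw [← hg]; exact orderOf_injective ι.toMonoidHom ι.injective g
  have : NeZero q := ⟨h.hq.ne_zero⟩
  obtain ⟨j, -, hj⟩ := (hι ▸ IsPrimitiveRoot.orderOf (ι g) : IsPrimitiveRoot (ι g) q).eq_pow_of_pow_eq_one
    (h.ord ▸ pow_orderOf_eq_one lam)
  have hjq : ¬ q ∣ j := fun hd => h.lam_ne_one (by
    rw [← hj, orderOf_dvd_iff_pow_eq_one.mp (hι.symm ▸ hd)])
  let ev : R →+ V :=
    { toFun := fun s => (s : AddMonoid.End V) v₀
      map_zero' := rfl
      map_add' := fun s t => rfl }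
  have hev : Function.Bijective ev := by
    refine ⟨(injective_iff_map_eq_zero ev).mpr fun s hs => by_contra fun hne => hv₀ (hinj s hne v₀ hs), ?_⟩
    rw [← AddMonoidHom.range_eq_top]
    refine (hirr ev.range ?_).resolve_left fun e => hv₀ ?_
    · rintro _ ⟨s, rfl⟩; exact ⟨g * s, rfl⟩
    · have : v₀ ∈ ev.range := ⟨1, rfl⟩
      rw [e] at this
      exact this
  let eR : R ≃+ V := AddEquiv.ofBijective ev hev
  refine ⟨j, ι.toAddEquiv.toAddMonoidHom.comp eR.symm.toAddMonoidHom, hjq,
    ι.bijective.comp eR.symm.bijective, fun v => ?_⟩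
  obtain ⟨s, rfl⟩ := eR.surjective v
  have hs : (f ^ j) (eR s) = eR (g ^ j * s) := rfl
  show ι (eR.symm _) = lam * ι (eR.symm (eR s))
  rw [hs, AddEquiv.symm_apply_apply, AddEquiv.symm_apply_apply, map_mul, map_pow, hj]

/-- Structure of minimal non-`p`-nilpotent groups. -/
theorem exists_datum {X : Type*} [Group X] [Finite X] {p q r a : ℕ} [Fact p.Prime] [Fact q.Prime]
    {K : Type*} [Field K] {lam : K} (h : FieldHyp p q a K lam) (hr : 1 ≤ r)
    (h1 : ¬ Cfsg.HasNormalPComplement p X)
    (h2 : ∀ H : Subgroup X, H ≠ ⊤ → Cfsg.HasNormalPComplement p H)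
    (hX : ∃ t : ℕ, Nat.card X = p ^ t * q ^ r) :
    ∃ (P : Subgroup X) (y : X) (d : Datum lam P), orderOf y = q ^ r ∧ P ⊔ Subgroup.zpowers y = ⊤ ∧
      d.Tight ∧ ∀ x : P, (d.θ x : X) = y * x * y⁻¹ := by
  classical
  obtain ⟨hnil, -, hPn⟩ := S0132.result h1 h2
  obtain ⟨t, ht⟩ := hX
  obtain ⟨S⟩ : Nonempty (Sylow p X) := inferInstance
  obtain ⟨T⟩ : Nonempty (Sylow q X) := inferInstance
  have := hPn S
  set P : Subgroup X := (S : Subgroup X)
  have hpt : Nat.card P = p ^ t := by
    rw [S.card_eq_multiplicity, ht, Nat.factorization_mul (pow_ne_zero _ h.hp.ne_zero) (pow_ne_zero _ h.hq.ne_zero),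
      Finsupp.add_apply, h.hp.factorization_pow, Finsupp.single_eq_same, h.hq.factorization_pow,
      Finsupp.single_eq_of_ne h.hpq, add_zero]
  have hqr : Nat.card (T : Subgroup X) = q ^ r := by
    rw [T.card_eq_multiplicity, ht, Nat.factorization_mul (pow_ne_zero _ h.hp.ne_zero) (pow_ne_zero _ h.hq.ne_zero),
      Finsupp.add_apply, h.hp.factorization_pow, Finsupp.single_eq_of_ne h.hpq.symm, h.hq.factorization_pow,
      Finsupp.single_eq_same, zero_add]
  have hco : Nat.Coprime (p ^ t) (q ^ r) :=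
    Nat.Coprime.pow t r ((Nat.coprime_primes h.hp h.hq).mpr h.hpq)
  have hord : ∀ x ∈ P, ∀ z ∈ (T : Subgroup X), (orderOf x).Coprime (orderOf z) := fun x hx z hz =>
    Nat.Coprime.coprime_dvd_left (hpt ▸ Subgroup.orderOf_dvd_natCard P hx)
      (Nat.Coprime.coprime_dvd_right (hqr ▸ Subgroup.orderOf_dvd_natCard (T : Subgroup X) hz) hco)
  -- a noncentralizing `q`-element generates with `P`
  obtain ⟨y, hyT, x₁, hx₁, hyx⟩ : ∃ y ∈ (T : Subgroup X), ∃ x ∈ P, ¬ Commute x y := by
    by_contra hc
    push Not at hc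
    refine h1 ⟨S, (T : Subgroup X), ⟨fun z hz g => ?_⟩,
      Subgroup.isComplement'_of_coprime (by rw [hqr, hpt, ht, mul_comm]) (by rw [hqr, hpt]; exact hco.symm)⟩
    have hsup : (g : X) ∈ (P ⊔ (T : Subgroup X) : Subgroup X) := by
      rw [(Subgroup.isComplement'_of_coprime (H := P) (K := (T : Subgroup X)) (by rw [hqr, hpt, ht])
        (by rw [hqr, hpt]; exact hco)).sup_eq_top]
      exact Subgroup.mem_top g
    rw [← SetLike.mem_coe, Subgroup.normal_mul] at hsup
    obtain ⟨x, hx, w, hw, rfl⟩ := hsup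
    have hcw : Commute x (w * z * w⁻¹) := hc _ ((T : Subgroup X).mul_mem ((T : Subgroup X).mul_mem hw hz) ((T : Subgroup X).inv_mem hw)) x hx
    show x * w * z * (x * w)⁻¹ ∈ (T : Subgroup X)
    rw [show x * w * z * (x * w)⁻¹ = x * (w * z * w⁻¹) * x⁻¹ by group, hcw.eq, mul_inv_cancel_right]
    exact (T : Subgroup X).mul_mem ((T : Subgroup X).mul_mem hw hz) ((T : Subgroup X).inv_mem hw)
  have hgen : ∀ z ∈ (T : Subgroup X), (∃ x ∈ P, ¬ Commute x z) → P ⊔ Subgroup.zpowers z = ⊤ := by
    intro z hz ⟨x, hx, hne⟩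
    by_contra htop
    exact hne (S0577.commute_of_coprime (hnil _ htop) (Subgroup.mem_sup_left hx)
      (Subgroup.mem_sup_right (Subgroup.mem_zpowers z)) (hord x hx z hz))
  have htop := hgen y hyT ⟨x₁, hx₁, hyx⟩
  have hle : Subgroup.zpowers y ≤ (T : Subgroup X) := Subgroup.zpowers_le.mpr hyT
  have hdisj : ∀ z ∈ P, z ∈ Subgroup.zpowers y → z = 1 := fun z hz hzy =>
    orderOf_eq_one_iff.mp (Nat.coprime_self _ |>.mp (hord z hz z (hle hzy)))
  have hyo : orderOf y = q ^ r := by
    rw [← Nat.card_zpowers, Subgroup.eq_of_le_of_card_ge hle ?_, hqr]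
    have hsurj : Function.Surjective fun w : P × Subgroup.zpowers y => (w.1 : X) * w.2 := by
      intro g
      have hg : g ∈ ((P ⊔ Subgroup.zpowers y : Subgroup X) : Set X) := htop ▸ Set.mem_univ g
      rw [Subgroup.normal_mul] at hg
      obtain ⟨x, hx, w, hw, rfl⟩ := hg
      exact ⟨(⟨x, hx⟩, ⟨w, hw⟩), rfl⟩
    have hc := Nat.card_le_card_of_surjective _ hsurj
    rw [Nat.card_prod, ht, hpt] at hc
    rw [hqr]
    exact Nat.le_of_mul_le_mul_left hc (pow_pos h.hp.pos t)
  have hyq : ∀ x ∈ P, Commute x (y ^ q) := by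
    intro x hx
    by_contra hne
    have hy : y ∈ ((P ⊔ Subgroup.zpowers (y ^ q) : Subgroup X) : Set X) := by
      rw [hgen (y ^ q) (pow_mem hyT q) ⟨x, hx, hne⟩]; exact Set.mem_univ y
    rw [Subgroup.normal_mul] at hy
    obtain ⟨z, hz, w, hw, hzw⟩ := hy
    dsimp only at hzw
    have hw' : w ∈ Subgroup.zpowers y := Subgroup.zpowers_le.mpr (pow_mem (Subgroup.mem_zpowers y) q) hw
    have hz1 := hdisj z hz (by
      rw [show z = y * w⁻¹ from eq_mul_inv_of_mul_eq hzw]; exact mul_mem (Subgroup.mem_zpowers y) (inv_mem hw'))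
    subst hz1
    rw [one_mul] at hzw
    subst hzw
    have hdvd := orderOf_dvd_of_mem_zpowers hw
    rw [orderOf_pow, hyo, Nat.gcd_eq_right (dvd_pow_self q (by omega))] at hdvd
    have := Nat.le_of_dvd (Nat.div_pos (Nat.le_of_dvd (pow_pos h.hq.pos r) (dvd_pow_self q (by omega))) h.hq.pos) hdvd
    exact absurd (Nat.div_lt_self (pow_pos h.hq.pos r) h.hq.one_lt) (not_lt.mpr this)
  -- the action on `P`
  set θ : MulAut P := MulAut.conjNormal y
  have hθ : ∀ x : P, (θ x : X) = y * x * y⁻¹ := fun x => rfl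
  have hθpow : ∀ (n : ℕ) (x : P), ((θ ^ n) x : X) = y ^ n * x * (y ^ n)⁻¹ := fun n x => by
    rw [← map_pow]; rfl
  have hθq : ∀ x : P, (θ ^ q) x = x := fun x => Subtype.ext (by
    rw [hθpow, ← (hyq x x.2).eq, mul_inv_cancel_right])
  have hprop : ∀ D : Subgroup P, (∀ x ∈ D, θ x ∈ D) → D ≠ ⊤ → ∀ x ∈ D, θ x = x := by
    intro D hD hne x hx
    set D' := D.map P.subtype
    have hnorm : Subgroup.zpowers y ≤ Subgroup.normalizer (D' : Set X) := by
      rw [Subgroup.zpowers_le, Subgroup.mem_normalizer_iff_map_conj_eq]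
      refine Subgroup.eq_of_le_of_card_ge ?_ (le_of_eq (Subgroup.card_map_of_injective (MulAut.conj y).injective).symm)
      rintro _ ⟨_, ⟨z, hz, rfl⟩, rfl⟩
      exact ⟨θ z, hD z hz, rfl⟩
    by_contra hne'
    have htop' : Subgroup.zpowers y ⊔ D' = ⊤ := by
      by_contra hnt
      refine hne' (Subtype.ext ?_)
      have hcm : Commute (x : X) y := (S0577.commute_of_coprime (hnil _ hnt) (Subgroup.mem_sup_right (Subgroup.mem_map_of_mem _ hx))
        (Subgroup.mem_sup_left (Subgroup.mem_zpowers y)) (hord x x.2 y hyT))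
      rw [hθ, ← hcm.eq, mul_inv_cancel_right]
    refine hne (eq_top_iff.mpr fun z _ => ?_)
    have hz : (z : X) ∈ ((Subgroup.zpowers y ⊔ D' : Subgroup X) : Set X) := htop' ▸ Set.mem_univ _
    rw [Subgroup.coe_mul_of_left_le_normalizer_right _ _ hnorm] at hz
    obtain ⟨w, hw, _, ⟨u, hu, rfl⟩, hwu⟩ := hz
    dsimp only at hwu
    have hw1 := hdisj w (by rw [eq_mul_inv_of_mul_eq hwu]; exact P.mul_mem z.2 (P.inv_mem u.2)) hw
    subst hw1
    rw [one_mul] at hwu
    exact Subtype.ext hwu ▸ hu
  have hPp : IsPGroup p P := S.2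
  let C : Subgroup P :=
    { carrier := {x | θ x = x}
      mul_mem' := fun {u v} hu hv => show θ (u * v) = u * v by rw [map_mul, hu, hv]
      one_mem' := map_one θ
      inv_mem' := fun {u} hu => show θ u⁻¹ = u⁻¹ by rw [map_inv, hu] }
  have hCtop : C ≠ ⊤ := fun e => hyx (by
    have h1 : θ ⟨x₁, hx₁⟩ = ⟨x₁, hx₁⟩ := (e ▸ Subgroup.mem_top _ : (⟨x₁, hx₁⟩ : P) ∈ C)
    exact (mul_inv_eq_iff_eq_mul.mp (congrArg Subtype.val h1)).symm)
  haveI : Nontrivial P := ⟨⟨1, ⟨x₁, hx₁⟩, fun e => hyx (by
    rw [show x₁ = 1 from (congrArg Subtype.val e).symm]; exact Commute.one_left y)⟩⟩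
  have hP'C : commutator P ≤ C := by
    haveI := hPp.isNilpotent
    refine fun x hx => hprop _ (fun z hz => ?_) (Group.IsSolvable.commutator_lt_top_of_nontrivial P).ne x hx
    exact (Subgroup.Characteristic.fixed (inferInstance : (commutator P).Characteristic) θ).ge hz
  haveI hCn : C.Normal := Subgroup.Normal.of_commutator_le _ hP'C
  have hfix : ∀ (n : ℕ) (x : P), θ (x⁻¹ * θ x) = x⁻¹ * θ x → (θ ^ n) x = x * (x⁻¹ * θ x) ^ n := by
    intro n x hx
    induction n with
    | zero => simp
    | succ n ihn =>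
      rw [pow_succ', MulAut.mul_apply, ihn, map_mul, map_pow, hx, pow_succ', ← mul_assoc x, mul_inv_cancel_left]
  have hE : Subgroup.closure (Set.range fun x : P => x⁻¹ * θ x) = ⊤ := by
    by_contra hne
    have hinv : ∀ z ∈ Subgroup.closure (Set.range fun x : P => x⁻¹ * θ x), θ z ∈ Subgroup.closure (Set.range fun x : P => x⁻¹ * θ x) := by
      intro z hz
      induction hz using Subgroup.closure_induction with
      | mem w hw => obtain ⟨x, rfl⟩ := hw; exact Subgroup.subset_closure ⟨θ x, by simp⟩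
      | one => simp
      | mul u v _ _ hu hv => rw [map_mul]; exact mul_mem hu hv
      | inv u _ hu => rw [map_inv]; exact inv_mem hu
    refine hCtop (eq_top_iff.mpr fun x _ => ?_)
    have hfx := hprop _ hinv hne _ (Subgroup.subset_closure ⟨x, rfl⟩)
    have hq' := hfix q x hfx
    rw [hθq, left_eq_mul] at hq'
    obtain ⟨k, hk⟩ := hPp (x⁻¹ * θ x)
    have := pow_gcd_eq_one.mpr ⟨hq', hk⟩
    rw [Nat.Coprime.gcd_eq_one ((((Nat.coprime_primes h.hq h.hp).mpr h.hpq.symm)).pow_right k), pow_one, inv_mul_eq_one] at this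
    exact this.symm
  have hCcen : C ≤ Subgroup.center P := by
    intro c hc
    rw [Subgroup.mem_center_iff]
    have hle : Subgroup.closure (Set.range fun x : P => x⁻¹ * θ x) ≤ Subgroup.centralizer {c} := by
      rw [Subgroup.closure_le]
      rintro _ ⟨x, rfl⟩
      rw [SetLike.mem_coe, Subgroup.mem_centralizer_singleton_iff]
      have h1 : θ ⁅x, c⁆ = ⁅x, c⁆ := hP'C (Subgroup.commutator_mem_commutator (Subgroup.mem_top x) (Subgroup.mem_top c))
      rw [map_commutatorElement, show θ c = c from hc, commutatorElement_def, commutatorElement_def, mul_left_inj] at h1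
      calc x⁻¹ * θ x * c = x⁻¹ * (θ x * c * (θ x)⁻¹) * θ x := by group
        _ = x⁻¹ * (x * c * x⁻¹) * θ x := by rw [h1]
        _ = _ := by group
    exact fun g => Subgroup.mem_centralizer_singleton_iff.mp (hle (hE ▸ Subgroup.mem_top g))
  -- the quotient
  letI : CommGroup (P ⧸ C) :=
    { (inferInstance : Group (P ⧸ C)) with
      mul_comm := fun a b => by
        induction a using QuotientGroup.induction_on with
        | H a =>
          induction b using QuotientGroup.induction_on with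
          | H b =>
            rw [← commutatorElement_eq_one_iff_mul_comm]
            exact (map_commutatorElement (QuotientGroup.mk' C) a b).symm.trans ((QuotientGroup.eq_one_iff _).mpr
              (hP'C (Subgroup.commutator_mem_commutator (Subgroup.mem_top a) (Subgroup.mem_top b)))) }
  let fq : P ⧸ C →* P ⧸ C := QuotientGroup.lift C ((QuotientGroup.mk' C).comp θ.toMonoidHom) fun z hz => by
    rw [MonoidHom.mem_ker, MonoidHom.comp_apply]
    exact (QuotientGroup.eq_one_iff _).mpr (show θ z ∈ C by rw [show θ z = z from hz]; exact hz)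
  haveI hQnt : Nontrivial (P ⧸ C) := by
    obtain ⟨x, hx⟩ : ∃ x, x ∉ C := by
      by_contra hc; push Not at hc; exact hCtop (eq_top_iff.mpr fun x _ => hc x)
    exact ⟨⟨QuotientGroup.mk x, 1, fun e => hx ((QuotientGroup.eq_one_iff x).mp e)⟩⟩
  have hirrM : ∀ W : Subgroup (P ⧸ C), (∀ v ∈ W, fq v ∈ W) → W = ⊥ ∨ W = ⊤ := by
    intro W hW
    by_cases hc : W.comap (QuotientGroup.mk' C) = ⊤
    · right
      refine eq_top_iff.mpr fun v _ => ?_
      induction v using QuotientGroup.induction_on with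
      | H v => exact (hc ▸ Subgroup.mem_top v : v ∈ W.comap (QuotientGroup.mk' C))
    · left
      refine (Subgroup.eq_bot_iff_forall _).mpr fun v hv => ?_
      induction v using QuotientGroup.induction_on with
      | H v => exact (QuotientGroup.eq_one_iff v).mpr (hprop _ (fun z hz => hW _ hz) hc v hv)
  have hexp : ∀ v : P ⧸ C, v ^ p = 1 := by
    rcases hirrM (powMonoidHom p).range (by
      rintro _ ⟨w, rfl⟩; exact ⟨fq w, by simp [powMonoidHom]⟩) with e | e
    · exact fun v => Subgroup.mem_bot.mp (e ▸ ⟨v, rfl⟩ : v ^ p ∈ (⊥ : Subgroup _))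
    · exfalso
      have hq' : IsPGroup p (P ⧸ C) := hPp.to_quotient C
      obtain ⟨k, hk⟩ := IsPGroup.iff_card.mp hq'
      have hdvd : p ∣ Nat.card (P ⧸ C) := by
        rcases k with _ | k
        · rw [pow_zero] at hk; exact absurd hk (Finite.one_lt_card.ne')
        · rw [hk]; exact dvd_pow_self p (Nat.succ_ne_zero k)
      obtain ⟨v, hv⟩ := exists_prime_orderOf_dvd_card' p hdvd
      have hinj : Function.Injective (powMonoidHom p : P ⧸ C →* P ⧸ C) :=
        Finite.injective_iff_surjective.mpr (MonoidHom.range_eq_top.mp e)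
      have hv1 : v = 1 := hinj (by rw [map_one]; exact orderOf_dvd_iff_pow_eq_one.mp hv.dvd)
      rw [hv1, orderOf_one] at hv
      exact h.hp.ne_one hv.symm
  let f : AddMonoid.End (Additive (P ⧸ C)) := fq.toAdditive
  have hfpow : ∀ (n : ℕ) (x : P), (f ^ n) (Additive.ofMul (QuotientGroup.mk x)) =
      Additive.ofMul (QuotientGroup.mk ((θ ^ n) x) : P ⧸ C) := by
    intro n
    induction n with
    | zero => exact fun x => rfl
    | succ n ihn =>
      intro x
      rw [pow_succ', pow_succ', AddMonoid.End.coe_mul, Function.comp_apply, ihn]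
      rfl
  obtain ⟨j, e, hjq, hebij, he⟩ := exists_field_iso h f
    (fun v => congrArg Additive.ofMul (hexp v.toMul))
    (DFunLike.ext _ _ fun v => by
      obtain ⟨x, hx⟩ := QuotientGroup.mk_surjective v.toMul
      rw [show v = Additive.ofMul (QuotientGroup.mk x : P ⧸ C) by rw [hx]; rfl, hfpow, hθq]
      rfl)
    (fun e1 => hCtop (eq_top_iff.mpr (hE.ge.trans (by
      rw [Subgroup.closure_le]
      rintro _ ⟨x, rfl⟩
      have h' := congrArg (fun g : AddMonoid.End (Additive (P ⧸ C)) => (g (Additive.ofMul (QuotientGroup.mk x))).toMul) e1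
      exact QuotientGroup.eq.mp h'.symm))))
    (fun W hW => by
      rcases hirrM W.toSubgroup' (fun v hv => hW _ hv) with e1 | e1
      · exact Or.inl (AddSubgroup.toSubgroup'.injective (e1.trans (map_bot AddSubgroup.toSubgroup').symm))
      · exact Or.inr (AddSubgroup.toSubgroup'.injective (e1.trans (map_top AddSubgroup.toSubgroup').symm)))
  set y' := y ^ j with hy'
  have hcopj : (q ^ r).Coprime j := Nat.Coprime.pow_left r ((Nat.Prime.coprime_iff_not_dvd h.hq).mpr hjq)
  have hy'o : orderOf y' = q ^ r := by rw [hy', Nat.Coprime.orderOf_pow (hyo.symm ▸ hcopj), hyo]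
  have hzp : Subgroup.zpowers y' = Subgroup.zpowers y :=
    Subgroup.eq_of_le_of_card_ge (Subgroup.zpowers_le.mpr (pow_mem (Subgroup.mem_zpowers y) j))
      (by rw [Nat.card_zpowers, Nat.card_zpowers, hyo, hy'o])
  let π : P →* Multiplicative K := (AddMonoidHom.toMultiplicativeRight e).comp (QuotientGroup.mk' C)
  have hπC : ∀ z, π z = 1 → z ∈ C := fun z hz => (QuotientGroup.eq_one_iff z).mp
    (Additive.ofMul.injective (hebij.1 (by
      rw [show Additive.ofMul (1 : P ⧸ C) = 0 from rfl, map_zero]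
      exact congrArg Multiplicative.toAdd hz)))
  have hθj : ∀ z, θ z = z → (θ ^ j) z = z := fun z hz => by
    clear he hy' hjq hcopj hy'o hzp
    induction j with
    | zero => rfl
    | succ n ihn => rw [pow_succ', MulAut.mul_apply, ihn, hz]
  let d : Datum lam P :=
    { θ := θ ^ j
      π := π
      surj := fun v => by
        obtain ⟨w, hw⟩ := hebij.2 v.toAdd
        obtain ⟨x, hx⟩ := QuotientGroup.mk'_surjective C w.toMul
        refine ⟨x, Multiplicative.toAdd.injective ?_⟩
        rw [← hw, show w = Additive.ofMul (QuotientGroup.mk' C x) by rw [hx]; rfl]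
        rfl
      equivariant := fun x => by
        show e (Additive.ofMul (QuotientGroup.mk ((θ ^ j) x) : P ⧸ C)) = lam * e _
        rw [← hfpow, he]; rfl
      central := fun z hz => ⟨hCcen (hπC z hz), hθj z (hπC z hz)⟩ }
  refine ⟨P, y', d, hy'o, by rw [hzp]; exact htop, fun D hD hsurj => ?_, fun x => hθpow j x⟩
  by_contra hne
  obtain ⟨k, hk⟩ : ∃ k : ℕ, y'^k = y := by
    have : y ∈ Subgroup.zpowers y' := hzp ▸ Subgroup.mem_zpowers y
    rwa [← mem_powers_iff_mem_zpowers] at this
  have hθk : ∀ z : P, θ z = ((θ ^ j) ^ k) z := fun z => Subtype.ext (by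
    rw [hθ, ← pow_mul, hθpow, pow_mul, ← hy', hk])
  have hDθ : ∀ z ∈ D, θ z ∈ D := by
    intro z hz
    rw [hθk]
    clear hk hθk
    induction k with
    | zero => exact hz
    | succ n ihn => rw [pow_succ', MulAut.mul_apply]; exact hD _ ihn
  obtain ⟨x, hx, hx1⟩ := hsurj (Multiplicative.ofAdd 1)
  have hxC : x ∈ C := hprop D hDθ hne x hx
  have : π x = 1 := by
    show (AddMonoidHom.toMultiplicativeRight e) (QuotientGroup.mk' C x) = 1
    rw [QuotientGroup.mk'_apply, (QuotientGroup.eq_one_iff x).mpr hxC, map_one]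
  exact one_ne_zero (ofAdd_eq_one.mp (hx1.symm.trans this))

end Cfsg.Agent.SchmidtUniversal
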