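/-
The universal `p`-part: `K` for odd `a`, the unitary group `{(x, z) | z + σ z = x σ x}` for even `a`.

Main results (namespace `Cfsg.Agent.SchmidtUniversal`):
* `Datum.pow_q`        : `θ ^ q = 1` in a tight datum
* `FieldHyp.exists_tight` : a tight datum of order `p^(bnd a)`
-/
import Cfsg.Agent.Lib.SchmidtUniversal.Bound
import Cfsg.Agent.EqLemmas

set_option autoImplicit false
set_option linter.unusedSectionVars false

namespace Cfsg.Agent.SchmidtUniversal

theorem Datum.pow_q {p q a : ℕ} {K : Type*} [Field K] {lam : K} {P : Type*} [Group P] [Finite P]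
    (d : Datum lam P) (h : FieldHyp p q a K lam) (hd : d.Tight) : (d.θ : MulAut P) ^ q = 1 := by
  set θ : MulAut P := d.θ with hθ
  have hπ : ∀ (n : ℕ) x, (d.π ((θ ^ n) x)).toAdd = lam ^ n * (d.π x).toAdd := by
    intro n
    induction n with
    | zero => intro x; simp
    | succ n ihn => intro x; rw [pow_succ', MulAut.mul_apply, hθ, d.equivariant, ← hθ, ihn, pow_succ', mul_assoc]
  have hz : ∀ x, d.π (x⁻¹ * (θ ^ q) x) = 1 := fun x => by
    apply Multiplicative.toAdd.injective
    rw [map_mul, map_inv, toAdd_mul, toAdd_inv, hπ, ← h.ord, pow_orderOf_eq_one, one_mul, neg_add_cancel]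
    rfl
  let F : Subgroup P :=
    { carrier := {x | (θ ^ q) x = x}
      mul_mem' := fun {u v} hu hv => show (θ ^ q) (u * v) = u * v by rw [map_mul, hu, hv]
      one_mem' := map_one _
      inv_mem' := fun {u} hu => show (θ ^ q) u⁻¹ = u⁻¹ by rw [map_inv, hu] }
  have hF : ∀ x, x⁻¹ * θ x ∈ F := fun x => by
    show (θ ^ q) (x⁻¹ * θ x) = x⁻¹ * θ x
    have hcom : (θ ^ q) (θ x) = θ ((θ ^ q) x) := by rw [← MulAut.mul_apply, ← pow_succ, pow_succ', MulAut.mul_apply]
    obtain ⟨hc, hfz⟩ := d.central _ (hz x)
    set z := x⁻¹ * (θ ^ q) x with hzdef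
    have e1 : (θ ^ q) x = x * z := by rw [hzdef, mul_inv_cancel_left]
    rw [map_mul, map_inv, hcom, e1, map_mul, hθ, hfz, mul_inv_rev]
    have := Subgroup.mem_center_iff.mp hc
    calc z⁻¹ * x⁻¹ * (d.θ x * z) = z⁻¹ * (x⁻¹ * d.θ x * z) := by group
      _ = z⁻¹ * (z * (x⁻¹ * d.θ x)) := by rw [this]
      _ = x⁻¹ * d.θ x := by group
  have htop : F = ⊤ := by
    refine hd F (fun x hx => ?_) fun v => ?_
    · show (θ ^ q) (θ x) = θ x
      rw [← MulAut.mul_apply, ← pow_succ, pow_succ', MulAut.mul_apply, show (θ ^ q) x = x from hx]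
    · obtain ⟨x, hx⟩ := d.surj (Multiplicative.ofAdd (v.toAdd / (lam - 1)))
      refine ⟨_, hF x, Multiplicative.toAdd.injective ?_⟩
      rw [map_mul, map_inv, toAdd_mul, toAdd_inv, hθ, d.equivariant, hx, toAdd_ofAdd]
      field_simp [sub_ne_zero.mpr h.lam_ne_one]
      ring
  exact MulEquiv.ext fun x => (htop ▸ Subgroup.mem_top x : x ∈ F)

theorem ncard_roots_le {K : Type*} [Field K] (c : K) {N : ℕ} (hN : 1 < N) :
    Set.ncard {x : K | x ^ N + c * x = 0} ≤ N := by
  classical
  set f : Polynomial K := Polynomial.X ^ N + Polynomial.C c * Polynomial.X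
  have hdeg : f.natDegree ≤ N := (Polynomial.natDegree_add_le _ _).trans (max_le (Polynomial.natDegree_X_pow N).le
    ((Polynomial.natDegree_C_mul_le _ _).trans (Polynomial.natDegree_X_le.trans hN.le)))
  have hne : f ≠ 0 := fun e => by
    have := congrArg (fun g => Polynomial.coeff g N) e
    simp [f, Polynomial.coeff_X, hN.ne] at this
  calc Set.ncard {x : K | x ^ N + c * x = 0} ≤ (f.roots.toFinset : Set K).ncard :=
        Set.ncard_le_ncard (fun x hx => by simpa [f, hne] using hx) f.roots.toFinset.finite_toSet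
    _ ≤ f.natDegree := by
        rw [Set.ncard_coe_finset]; exact (Multiset.toFinset_card_le _).trans f.card_roots'
    _ ≤ N := hdeg

/-- A field involution. -/
structure Invol (K : Type*) [Field K] where
  σ : K →+* K
  invol : ∀ x, σ (σ x) = x

/-- The unitary `p`-group. -/
@[ext] structure Uni {K : Type*} [Field K] (s : Invol K) where
  x : K
  z : K
  cond : z + s.σ z = x * s.σ x

namespace Uni

variable {K : Type*} [Field K] {s : Invol K}

instance : Mul (Uni s) := ⟨fun g h => ⟨g.x + h.x, g.z + h.z + s.σ g.x * h.x, by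
  simp only [map_add, map_mul, s.invol]
  linear_combination g.cond + h.cond⟩⟩

instance : One (Uni s) := ⟨⟨0, 0, by simp⟩⟩

instance : Inv (Uni s) := ⟨fun g => ⟨-g.x, -g.z + s.σ g.x * g.x, by
  simp only [map_add, map_mul, map_neg, s.invol]
  linear_combination -g.cond⟩⟩

@[simp] theorem mul_x (g h : Uni s) : (g * h).x = g.x + h.x := rfl
@[simp] theorem mul_z (g h : Uni s) : (g * h).z = g.z + h.z + s.σ g.x * h.x := rfl
@[simp] theorem one_x : (1 : Uni s).x = 0 := rfl
@[simp] theorem one_z : (1 : Uni s).z = 0 := rfl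
@[simp] theorem inv_x (g : Uni s) : g⁻¹.x = -g.x := rfl
@[simp] theorem inv_z (g : Uni s) : g⁻¹.z = -g.z + s.σ g.x * g.x := rfl

instance : Group (Uni s) := Group.ofLeftAxioms
  (fun a b c => by ext <;> simp <;> ring)
  (fun a => by ext <;> simp)
  (fun a => by ext <;> simp)

instance [Finite K] : Finite (Uni s) :=
  Finite.of_injective (fun g : Uni s => (g.x, g.z)) fun g h e => Uni.ext (congrArg Prod.fst e) (congrArg Prod.snd e)

def proj (s : Invol K) : Uni s →* Multiplicative K where
  toFun g := Multiplicative.ofAdd g.x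
  map_one' := rfl
  map_mul' _ _ := rfl

def scale (s : Invol K) {lam : K} (hl : lam * s.σ lam = 1) : Uni s ≃* Uni s where
  toFun g := ⟨lam * g.x, g.z, by rw [map_mul, g.cond]; linear_combination -(g.x * s.σ g.x) * hl⟩
  invFun g := ⟨s.σ lam * g.x, g.z, by rw [map_mul, s.invol, g.cond]; linear_combination -(g.x * s.σ g.x) * hl⟩
  left_inv g := Uni.ext (by show s.σ lam * (lam * g.x) = g.x; linear_combination g.x * hl) rfl
  right_inv g := Uni.ext (by show lam * (s.σ lam * g.x) = g.x; linear_combination g.x * hl) rfl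
  map_mul' g h := Uni.ext (by show lam * (g.x + h.x) = lam * g.x + lam * h.x; ring) (by
    show g.z + h.z + s.σ g.x * h.x = g.z + h.z + s.σ (lam * g.x) * (lam * h.x)
    rw [map_mul]; linear_combination -(s.σ g.x * h.x) * hl)

end Uni

theorem FieldHyp.exists_tight {p q a : ℕ} {K : Type} [Field K] {lam : K} (h : FieldHyp p q a K lam) :
    ∃ (P : Type) (_ : Group P) (_ : Finite P) (d : Datum lam P), d.Tight ∧ Nat.card P = p ^ bnd a := by
  classical
  have := h.finite
  by_cases heven : a % 2 = 0
  · have := Fact.mk h.hp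
    have := h.charP
    have hinv : ∀ x : K, iterateFrobenius K p (a / 2) (iterateFrobenius K p (a / 2) x) = x := fun x => by
      have : Fintype K := Fintype.ofFinite K
      rw [iterateFrobenius_def, iterateFrobenius_def, ← pow_mul, ← pow_add, show a / 2 + a / 2 = a by omega,
        ← h.card, Nat.card_eq_fintype_card, FiniteField.pow_card]
    let s : Invol K := ⟨iterateFrobenius K p (a / 2), hinv⟩
    set N := p ^ (a / 2) with hN
    have hN1 : 1 < N := Nat.one_lt_pow (by have := h.a_pos; omega) h.hp.one_lt
    have hσ : ∀ x, s.σ x = x ^ N := fun x => iterateFrobenius_def ..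
    have hl : lam * s.σ lam = 1 := by
      rw [hσ, h.pow_half heven, mul_inv_cancel₀ h.lam_ne_zero]
    have hsq : p ^ a = N * N := by rw [hN, ← pow_add, show a / 2 + a / 2 = a by omega]
    -- the two additive subgroups
    let T : K →+ K := AddMonoidHom.id K + s.σ.toAddMonoidHom
    let T' : K →+ K := AddMonoidHom.id K - s.σ.toAddMonoidHom
    have hTle : Nat.card T.ker ≤ N := by
      refine le_trans (le_of_eq (Nat.card_coe_set_eq _)) ?_
      refine le_trans (Set.ncard_le_ncard (fun x hx => ?_) (Set.toFinite _)) (ncard_roots_le (1 : K) hN1)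
      have hx' : x + s.σ x = 0 := hx
      rw [Set.mem_setOf_eq, ← hσ, one_mul, add_comm, hx']
    have hT'le : Nat.card T'.ker ≤ N := by
      refine le_trans (le_of_eq (Nat.card_coe_set_eq _)) ?_
      refine le_trans (Set.ncard_le_ncard (fun x hx => ?_) (Set.toFinite _)) (ncard_roots_le (-1 : K) hN1)
      have hx' : x - s.σ x = 0 := hx
      rw [Set.mem_setOf_eq, ← hσ]
      linear_combination -hx'
    have hle : T'.range ≤ T.ker := by
      rintro _ ⟨v, rfl⟩
      show (v - s.σ v) + s.σ (v - s.σ v) = 0
      rw [map_sub, s.invol]; ring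
    have hge : N ≤ Nat.card T'.range := by
      have hm := T'.ker.index_mul_card
      rw [AddSubgroup.index_ker, h.card, hsq] at hm
      by_contra hlt
      have := Nat.mul_lt_mul_of_lt_of_le (not_le.mp hlt) hT'le (by omega)
      omega
    have hTeq : T'.range = T.ker := AddSubgroup.eq_of_le_of_card_ge hle (hTle.trans hge)
    have hTcard : Nat.card T.ker = N := le_antisymm hTle (hTeq ▸ hge)
    obtain ⟨e₀, he₀⟩ : ∃ e₀, e₀ + s.σ e₀ ≠ 0 := by
      by_contra hc
      push Not at hc
      have : T.ker = ⊤ := eq_top_iff.mpr fun x _ => hc x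
      rw [this, AddSubgroup.card_top, h.card, hsq] at hTcard
      exact absurd hTcard (by nlinarith)
    have hπs : Function.Surjective (Uni.proj s) := fun v => by
      refine ⟨⟨v.toAdd, e₀ / (e₀ + s.σ e₀) * (v.toAdd * s.σ v.toAdd), ?_⟩, rfl⟩
      simp only [map_mul, map_div₀, map_add, s.invol, add_comm (s.σ e₀) e₀, mul_comm (s.σ v.toAdd) v.toAdd]
      field_simp
    let d : Datum lam (Uni s) :=
      { θ := Uni.scale s hl
        π := Uni.proj s
        surj := hπs
        equivariant := fun g => rfl
        central := fun g hg => by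
          have hg0 : g.x = 0 := congrArg Multiplicative.toAdd hg
          refine ⟨Subgroup.mem_center_iff.mpr fun u => ?_, Uni.ext ?_ rfl⟩
          · ext <;> simp [hg0, add_comm]
          · show lam * g.x = g.x
            rw [hg0, mul_zero] }
    have hker : Nat.card d.π.ker = N := by
      rw [← hTcard]
      exact Nat.card_congr
        { toFun := fun g => ⟨(g : Uni s).z, by
            show (g : Uni s).z + s.σ (g : Uni s).z = 0
            have hx : (g : Uni s).x = 0 := congrArg Multiplicative.toAdd g.2
            rw [(g : Uni s).cond, hx, zero_mul]⟩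
          invFun := fun z => ⟨⟨0, z.1, by rw [zero_mul]; exact z.2⟩, rfl⟩
          left_inv := fun g => Subtype.ext (Uni.ext (congrArg Multiplicative.toAdd g.2).symm rfl)
          right_inv := fun z => rfl }
    refine ⟨Uni s, inferInstance, inferInstance, d, fun D _ hD => ?_, ?_⟩
    · have hpick : ∀ v : K, ∃ g ∈ D, g.x = v := fun v => by
        obtain ⟨g, hg, hgv⟩ := hD (Multiplicative.ofAdd v)
        exact ⟨g, hg, congrArg Multiplicative.toAdd hgv⟩
      have hkerD : ∀ g : Uni s, g.x = 0 → g ∈ D := by
        intro g hg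
        have hz : g.z ∈ T'.range := hTeq ▸ (show g.z + s.σ g.z = 0 by rw [g.cond, hg, zero_mul])
        obtain ⟨v, hv⟩ := hz
        have hv' : v - s.σ v = g.z := hv
        obtain ⟨u, hu, hu1⟩ := hpick 1
        obtain ⟨w, hw, hw1⟩ := hpick v
        have : g = u * w * (w * u)⁻¹ := by
          rw [eq_mul_inv_iff_mul_eq]
          ext <;> simp [hg, hu1, hw1]
          all_goals first | ring1 | linear_combination -hv'
        rw [this]
        exact D.mul_mem (D.mul_mem hu hw) (D.inv_mem (D.mul_mem hw hu))
      refine eq_top_iff.mpr fun g _ => ?_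
      obtain ⟨u, hu, hux⟩ := hpick g.x
      rw [← mul_inv_cancel_left u g]
      exact D.mul_mem hu (hkerD _ (by simp [hux]))
    · rw [← d.π.ker.index_mul_card, hker, Subgroup.index_ker, MonoidHom.range_eq_top.mpr d.surj, Subgroup.card_top,
        show Nat.card (Multiplicative K) = p ^ a from h.card, hN, ← pow_add, bnd, if_neg (by omega)]
      congr 1
      omega
  · let d : Datum lam (Multiplicative K) :=
      { θ := AddEquiv.toMultiplicative
          { toFun := fun x => lam * x
            invFun := fun x => lam⁻¹ * x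
            left_inv := fun x => inv_mul_cancel_left₀ h.lam_ne_zero x
            right_inv := fun x => mul_inv_cancel_left₀ h.lam_ne_zero x
            map_add' := fun x y => mul_add lam x y }
        π := MonoidHom.id _
        surj := Function.surjective_id
        equivariant := fun _ => rfl
        central := fun z hz => by
          obtain rfl : z = 1 := hz
          exact ⟨one_mem _, map_one _⟩ }
    refine ⟨Multiplicative K, inferInstance, inferInstance, d, fun D _ hD => eq_top_iff.mpr fun g _ => ?_, ?_⟩
    · obtain ⟨x, hx, rfl⟩ := hD g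
      exact hx
    · rw [show Nat.card (Multiplicative K) = p ^ a from h.card, bnd, if_pos (by omega)]

end Cfsg.Agent.SchmidtUniversal
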