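/-
The universal minimal non-`p`-nilpotent group with cyclic `q`-part of order `q^r`.

Main results (namespace `Cfsg.Agent.SchmidtUniversal`):
* `exists_universal`
-/
import Cfsg.Agent.Lib.SchmidtUniversal.Model
import Cfsg.Agent.Lib.SchmidtUniversal.Extract
import Cfsg.Agent.EqLemmas

set_option autoImplicit false
set_option linter.unusedSectionVars false

open scoped Pointwise

namespace Cfsg.Agent.SchmidtUniversal

theorem hom_eq_gen_pow {n : ℕ} [NeZero n] {M : Type*} [Monoid M] (F : Multiplicative (ZMod n) →* M)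
    (c : Multiplicative (ZMod n)) : F c = F (Multiplicative.ofAdd 1) ^ c.toAdd.val := by
  rw [← map_pow, ← ofAdd_nsmul, nsmul_one, ZMod.natCast_zmod_val, ofAdd_toAdd]

theorem exists_hom {n : ℕ} {M : Type*} [Group M] (g : M) (hg : g ^ n = 1) :
    ∃ F : Multiplicative (ZMod n) →* M, F (Multiplicative.ofAdd 1) = g := by
  refine ⟨AddMonoidHom.toMultiplicativeLeft (ZMod.lift n
    ⟨zmultiplesHom (Additive M) (Additive.ofMul g), ?_⟩), ?_⟩
  · rw [zmultiplesHom_apply, natCast_zsmul, ← ofMul_pow, hg]; rfl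
  · show Additive.toMul ((ZMod.lift n _) (1 : ZMod n) : Additive M) = g
    rw [show (1 : ZMod n) = ((1 : ℤ) : ZMod n) by simp, ZMod.lift_coe, zmultiplesHom_apply, one_zsmul]
    rfl

/-- Invariant subgroups of `P × P'` mapping diagonally onto `K` contain a tight one. -/
theorem exists_tight_sub {K : Type*} [Field K] {lam : K} {P P' : Type*} [Group P] [Finite P] [Group P'] [Finite P']
    (d : Datum lam P) (d' : Datum lam P') :
    ∃ (D : Subgroup (P × P')) (e : Datum lam D), e.Tight ∧
      ∀ x : D, (e.θ x : P × P') = (d.θ (x : P × P').1, d'.θ (x : P × P').2) ∧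
        e.π x = d.π (x : P × P').1 ∧ e.π x = d'.π (x : P × P').2 := by
  classical
  let Θ : MulAut (P × P') := d.θ.prodCongr d'.θ
  let S : Subgroup (P × P') := (d.π.comp (MonoidHom.fst P P')).eqLocus (d'.π.comp (MonoidHom.snd P P'))
  let good : Subgroup (P × P') → Prop := fun D =>
    D ≤ S ∧ (∀ x ∈ D, Θ x ∈ D) ∧ ∀ v, ∃ x ∈ D, d.π x.1 = v
  have hSgood : good S := ⟨le_rfl, fun x hx => by
      show d.π (d.θ x.1) = d'.π (d'.θ x.2)
      apply Multiplicative.toAdd.injective
      rw [d.equivariant, d'.equivariant, show d.π x.1 = d'.π x.2 from hx],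
    fun v => by
      obtain ⟨x, rfl⟩ := d.surj v
      obtain ⟨y, hy⟩ := d'.surj (d.π x)
      exact ⟨(x, y), hy.symm, rfl⟩⟩
  have hex : ∃ n, ∃ D, good D ∧ Nat.card D = n := ⟨_, S, hSgood, rfl⟩
  obtain ⟨D, ⟨hDS, hDΘ, hDs⟩, hDc⟩ := Nat.find_spec hex
  have hmap : D.map (Θ : (P × P') ≃* (P × P')).toMonoidHom = D := by
    refine Subgroup.eq_of_le_of_card_ge ?_ (le_of_eq (Subgroup.card_map_of_injective Θ.injective).symm)
    rintro _ ⟨x, hx, rfl⟩
    exact hDΘ x hx
  let e : Datum lam D :=
    { θ := ((Θ : (P × P') ≃* (P × P')).subgroupMap D).trans (MulEquiv.subgroupCongr hmap)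
      π := (d.π.comp (MonoidHom.fst P P')).comp D.subtype
      surj := fun v => by obtain ⟨x, hx, rfl⟩ := hDs v; exact ⟨⟨x, hx⟩, rfl⟩
      equivariant := fun x => d.equivariant _
      central := fun z hz => by
        have hz' : d'.π (z : P × P').2 = 1 := (show d.π (z : P × P').1 = d'.π (z : P × P').2 from hDS z.2).symm.trans hz
        obtain ⟨hc1, hf1⟩ := d.central _ hz
        obtain ⟨hc2, hf2⟩ := d'.central _ hz'
        refine ⟨Subgroup.mem_center_iff.mpr fun g => Subtype.ext (Prod.ext (Subgroup.mem_center_iff.mp hc1 _)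
          (Subgroup.mem_center_iff.mp hc2 _)), Subtype.ext (Prod.ext hf1 hf2)⟩ }
  refine ⟨D, e, fun E hE hEs => ?_, fun x => ⟨rfl, rfl, hDS x.2⟩⟩
  have hg : good (E.map D.subtype) := by
    refine ⟨(Subgroup.map_subtype_le E).trans hDS, ?_, fun v => ?_⟩
    · rintro _ ⟨x, hx, rfl⟩
      exact ⟨e.θ x, hE x hx, rfl⟩
    · obtain ⟨x, hx, rfl⟩ := hEs v
      exact ⟨x, ⟨x, hx, rfl⟩, rfl⟩
  have hmin := Nat.find_min' hex ⟨_, hg, rfl⟩
  rw [← hDc, Subgroup.card_map_of_injective D.subtype_injective] at hmin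
  exact Subgroup.eq_top_of_le_card _ hmin

/-- A tight datum of maximal order maps onto any tight datum. -/
theorem exists_map {p q a : ℕ} {K : Type*} [Field K] {lam : K} (h : FieldHyp p q a K lam)
    {P P' : Type*} [Group P] [Finite P] [Group P'] [Finite P'] (d : Datum lam P) (hd : d.Tight)
    (hcard : Nat.card P = p ^ bnd a) (d' : Datum lam P') (hd' : d'.Tight) :
    ∃ ψ : P →* P', Function.Surjective ψ ∧ (∀ x, ψ (d.θ x) = d'.θ (ψ x)) ∧ ∀ x, d'.π (ψ x) = d.π x := by
  obtain ⟨D, e, he, hpr⟩ := exists_tight_sub d d'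
  let f1 : D →* P := (MonoidHom.fst P P').comp D.subtype
  let f2 : D →* P' := (MonoidHom.snd P P').comp D.subtype
  have hs1 : Function.Surjective f1 := by
    rw [← MonoidHom.range_eq_top]
    refine hd _ ?_ fun v => ?_
    · rintro _ ⟨x, rfl⟩
      exact ⟨e.θ x, congrArg Prod.fst (hpr x).1⟩
    · obtain ⟨x, rfl⟩ := e.surj v
      exact ⟨f1 x, ⟨x, rfl⟩, (hpr x).2.1.symm⟩
  have hs2 : Function.Surjective f2 := by
    rw [← MonoidHom.range_eq_top]
    refine hd' _ ?_ fun v => ?_
    · rintro _ ⟨x, rfl⟩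
      exact ⟨e.θ x, congrArg Prod.snd (hpr x).1⟩
    · obtain ⟨x, rfl⟩ := e.surj v
      exact ⟨f2 x, ⟨x, rfl⟩, (hpr x).2.2.symm⟩
  have hbij : Function.Bijective f1 := (Nat.bijective_iff_surjective_and_card f1).mpr
    ⟨hs1, le_antisymm (hcard ▸ e.card_le h he) (Nat.card_le_card_of_surjective f1 hs1)⟩
  let g : P ≃* D := (MulEquiv.ofBijective f1 hbij).symm
  have hgx : ∀ x, f1 (g x) = x := fun x => (MulEquiv.ofBijective f1 hbij).apply_symm_apply x
  refine ⟨f2.comp g.toMonoidHom, hs2.comp g.surjective, fun x => ?_, fun x => ?_⟩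
  · have he' : g (d.θ x) = e.θ (g x) := hbij.1 (by
      rw [hgx]
      exact ((congrArg Prod.fst (hpr (g x)).1).trans (congrArg d.θ (hgx x))).symm)
    show f2 (g (d.θ x)) = d'.θ (f2 (g x))
    rw [he']
    exact congrArg Prod.snd (hpr (g x)).1
  · show d'.π (f2 (g x)) = d.π x
    exact (hpr (g x)).2.2.symm.trans ((hpr (g x)).2.1.trans (congrArg d.π (hgx x)))

/-- The universal group. -/
theorem exists_universal {p q r a : ℕ} [Fact p.Prime] [Fact q.Prime] {K : Type} [Field K] {lam : K}
    (h : FieldHyp p q a K lam) (hr : 1 ≤ r) :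
    ∃ (G₀ : Type) (_ : Group G₀) (_ : Finite G₀),
      (¬ Cfsg.HasNormalPComplement p G₀ ∧ ∀ L : Subgroup G₀, L ≠ ⊤ → Cfsg.HasNormalPComplement p ↥L) ∧
      Nat.card G₀ = p ^ bnd a * q ^ r ∧
      ∀ (X : Type*) [Group X] [Finite X],
        (¬ Cfsg.HasNormalPComplement p X ∧ ∀ L : Subgroup X, L ≠ ⊤ → Cfsg.HasNormalPComplement p ↥L) →
        (∃ t : ℕ, Nat.card X = p ^ t * q ^ r) →
        ∃ φ : G₀ →* X, Function.Surjective φ ∧ φ.ker ≤ Subgroup.center G₀ := by
  classical
  obtain ⟨P, _, _, d, hd, hcard⟩ := h.exists_tight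
  have hPp : IsPGroup p P := IsPGroup.of_card hcard
  haveI : NeZero (q ^ r) := ⟨pow_ne_zero _ h.hq.ne_zero⟩
  set θ : MulAut P := d.θ with hθ
  have hθr : θ ^ q ^ r = 1 := by
    obtain ⟨r', rfl⟩ : ∃ r', r = r' + 1 := ⟨r - 1, by omega⟩
    rw [pow_succ', pow_mul, hθ, d.pow_q h hd, one_pow]
  obtain ⟨Φ, hΦ⟩ := exists_hom θ hθr
  let gen : Multiplicative (ZMod (q ^ r)) := Multiplicative.ofAdd 1
  have hC : Nat.card (Multiplicative (ZMod (q ^ r))) = q ^ r := Nat.card_zmod _
  have hG : Nat.card (P ⋊[Φ] Multiplicative (ZMod (q ^ r))) = p ^ bnd a * q ^ r := by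
    rw [SemidirectProduct.card, hcard, hC]
  haveI : Finite (P ⋊[Φ] Multiplicative (ZMod (q ^ r))) :=
    Nat.finite_of_card_ne_zero (by rw [hG]; exact mul_ne_zero (pow_ne_zero _ h.hp.ne_zero) (pow_ne_zero _ h.hq.ne_zero))
  have hlam : ∃ x, θ x ≠ x := by
    obtain ⟨x, hx⟩ := d.surj (Multiplicative.ofAdd 1)
    refine ⟨x, fun e => h.lam_ne_one ?_⟩
    have := d.equivariant x
    rw [← hθ, e, hx, toAdd_ofAdd, mul_one] at this
    exact this.symm
  have hcop : Nat.Coprime (q ^ r) p := ((Nat.coprime_primes h.hq h.hp).mpr h.hpq.symm).pow_left r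
  -- subgroups on which the left coordinate is multiplicative
  have hlin : ∀ L : Subgroup (P ⋊[Φ] Multiplicative (ZMod (q ^ r))),
      (∀ g ∈ L, ∀ g' ∈ L, Φ g.right g'.left = g'.left) → Cfsg.HasNormalPComplement p L := by
    intro L hL
    let f : L →* P :=
      { toFun := fun g => (g : P ⋊[Φ] _).left
        map_one' := rfl
        map_mul' := fun g g' => by
          show ((g : P ⋊[Φ] _) * g').left = _
          rw [SemidirectProduct.mul_left, hL g g.2 g' g'.2] }
    rw [Transfer.hasNormalPComplement_iff_coprime]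
    have hle : Cfsg.pResidual p L ≤ f.ker := Transfer.pResidual_le_ker hPp f
    refine Nat.Coprime.coprime_dvd_left ?_ hcop
    refine (Subgroup.card_dvd_of_le hle).trans (Dvd.dvd.trans ?_ hC.dvd)
    exact Subgroup.card_dvd_of_injective ((SemidirectProduct.rightHom).comp (L.subtype.comp f.ker.subtype))
      fun u v e => Subtype.ext (Subtype.ext (SemidirectProduct.ext
        ((show f u = 1 from u.2).trans (show f v = 1 from v.2).symm) e))
  refine ⟨P ⋊[Φ] Multiplicative (ZMod (q ^ r)), inferInstance, inferInstance, ⟨fun hc => ?_, fun L hL => ?_⟩, hG,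
    fun X _ _ hX ht => ?_⟩
  · obtain ⟨x, hx⟩ := hlam
    haveI : (SemidirectProduct.inl (φ := Φ)).range.Normal := by
      rw [SemidirectProduct.range_inl_eq_ker_rightHom]; infer_instance
    have hmem := Transfer.mem_centralizer_of_coprime hc (Q := (SemidirectProduct.inl (φ := Φ)).range)
      (hPp.of_equiv (MonoidHom.ofInjective SemidirectProduct.inl_injective))
      (g := SemidirectProduct.inr gen) (by rw [Subgroup.normalizer_eq_top]; exact Subgroup.mem_top _)
      (Nat.Coprime.coprime_dvd_left (by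
        rw [orderOf_injective _ SemidirectProduct.inr_injective]
        exact (orderOf_dvd_natCard _).trans hC.dvd) hcop)
    have := Subgroup.mem_centralizer_iff.mp hmem (SemidirectProduct.inl x) ⟨x, rfl⟩
    apply hx
    rw [← hΦ]
    apply SemidirectProduct.inl_injective (φ := Φ)
    rw [SemidirectProduct.inl_aut, ← this, map_inv, mul_inv_cancel_right]
  · by_cases hR : L.map SemidirectProduct.rightHom = ⊤
    · have hdvd : q ^ r ∣ Nat.card L := by
        refine hC.symm.dvd.trans ?_
        rw [← Subgroup.card_top (G := Multiplicative (ZMod (q ^ r))), ← hR]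
        exact Subgroup.card_map_dvd L _
      obtain ⟨S⟩ : Nonempty (Sylow q L) := inferInstance
      have hfac : (Nat.card (P ⋊[Φ] Multiplicative (ZMod (q ^ r)))).factorization q = r := by
        rw [hG, Nat.factorization_mul (pow_ne_zero _ h.hp.ne_zero) (pow_ne_zero _ h.hq.ne_zero), Finsupp.add_apply,
          h.hp.factorization_pow, Finsupp.single_eq_of_ne h.hpq.symm, h.hq.factorization_pow, Finsupp.single_eq_same,
          zero_add]
      have hScard : Nat.card ((S : Subgroup L).map L.subtype) = q ^ r := by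
        rw [Subgroup.card_map_of_injective L.subtype_injective, S.card_eq_multiplicity]
        congr 1
        refine le_antisymm ?_ ((h.hq.pow_dvd_iff_le_factorization Nat.card_pos.ne').mp hdvd)
        refine le_of_le_of_eq ?_ hfac
        exact (Nat.factorization_le_iff_dvd Nat.card_pos.ne' Nat.card_pos.ne').mpr L.card_subgroup_dvd_card q
      have hIcard : Nat.card (SemidirectProduct.inr (φ := Φ)).range = q ^ r :=
        (Nat.card_congr (MonoidHom.ofInjective SemidirectProduct.inr_injective).toEquiv).symm.trans hC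
      obtain ⟨c, hc⟩ := MulAction.exists_smul_eq (P ⋊[Φ] Multiplicative (ZMod (q ^ r)))
        (Sylow.ofCard _ (hScard.trans (by rw [hfac])) : Sylow q (P ⋊[Φ] Multiplicative (ZMod (q ^ r))))
        (Sylow.ofCard _ (hIcard.trans (by rw [hfac])))
      have hcL : ∀ z, SemidirectProduct.inr (φ := Φ) z ∈ MulAut.conj c • L := by
        intro z
        have hz : SemidirectProduct.inr (φ := Φ) z ∈ MulAut.conj c • ((S : Subgroup L).map L.subtype) := by
          have h1 : SemidirectProduct.inr (φ := Φ) z ∈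
              ((Sylow.ofCard _ (hIcard.trans (by rw [hfac])) : Sylow q _) : Subgroup (P ⋊[Φ] _)) := ⟨z, rfl⟩
          rw [← hc] at h1
          exact h1
        exact Subgroup.map_mono (Subgroup.map_subtype_le _) hz
      set L' := MulAut.conj c • L with hL'
      have hL'top : L' ≠ ⊤ := fun e => hL (Subgroup.eq_top_of_card_eq _ (by
        rw [← Subgroup.card_top (G := P ⋊[Φ] _), ← e]
        exact Nat.card_congr (Subgroup.equivSMul (MulAut.conj c) L).toEquiv))
      set D := L'.comap SemidirectProduct.inl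
      have hDinv : ∀ x ∈ D, d.θ x ∈ D := fun x hx => by
        show SemidirectProduct.inl (d.θ x) ∈ L'
        rw [show d.θ x = Φ gen x by rw [hΦ], SemidirectProduct.inl_aut]
        exact L'.mul_mem (L'.mul_mem (hcL gen) hx) (hcL _)
      let M : AddSubgroup K :=
        { carrier := {v | ∃ x ∈ D, (d.π x).toAdd = v}
          zero_mem' := ⟨1, one_mem _, by simp⟩
          add_mem' := by rintro _ _ ⟨x, hx, rfl⟩ ⟨y, hy, rfl⟩; exact ⟨x * y, mul_mem hx hy, by simp⟩
          neg_mem' := by rintro _ ⟨x, hx, rfl⟩; exact ⟨x⁻¹, inv_mem hx, by simp⟩ }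
      let R : Subring K :=
        { carrier := {s | ∀ m ∈ M, s * m ∈ M}
          mul_mem' := fun {s t} hs ht m hm => by rw [mul_assoc]; exact hs _ (ht m hm)
          one_mem' := fun m hm => by rwa [one_mul]
          add_mem' := fun {s t} hs ht m hm => by rw [add_mul]; exact M.add_mem (hs m hm) (ht m hm)
          zero_mem' := fun m hm => by rw [zero_mul]; exact M.zero_mem
          neg_mem' := fun {s} hs m hm => by rw [neg_mul]; exact M.neg_mem (hs m hm) }
      have hRtop := h.subring_eq_top R (by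
        rintro _ ⟨x, hx, rfl⟩; exact ⟨d.θ x, hDinv x hx, d.equivariant x⟩)
      by_cases hM : ∃ m ∈ M, m ≠ 0
      · exfalso
        obtain ⟨m, hm, hm0⟩ := hM
        have hDtop : D = ⊤ := hd D hDinv fun v => by
          have hmul := (hRtop ▸ Subring.mem_top (v.toAdd / m) : v.toAdd / m ∈ R) m hm
          rw [div_mul_cancel₀ _ hm0] at hmul
          obtain ⟨x, hx, hxv⟩ := hmul
          exact ⟨x, hx, Multiplicative.toAdd.injective hxv⟩
        refine hL'top (eq_top_iff.mpr fun g _ => ?_)
        rw [← SemidirectProduct.inl_left_mul_inr_right g]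
        exact L'.mul_mem (hDtop ▸ Subgroup.mem_top g.left : g.left ∈ D) (hcL _)
      · push Not at hM
        have hfix : ∀ g ∈ L', ∀ g' ∈ L', Φ g.right g'.left = g'.left := by
          intro g _ g' hg'
          have hD' : g'.left ∈ D := by
            show SemidirectProduct.inl g'.left ∈ L'
            rw [show SemidirectProduct.inl g'.left = g' * (SemidirectProduct.inr (φ := Φ) g'.right)⁻¹ from
              eq_mul_inv_of_mul_eq (SemidirectProduct.inl_left_mul_inr_right g')]
            exact L'.mul_mem hg' (L'.inv_mem (hcL _))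
          have h0 : d.π g'.left = 1 := Multiplicative.toAdd.injective (hM _ ⟨_, hD', rfl⟩)
          have hf : θ g'.left = g'.left := (d.central _ h0).2
          rw [hom_eq_gen_pow Φ, hΦ]
          induction g.right.toAdd.val with
          | zero => rfl
          | succ n ihn => rw [pow_succ', MulAut.mul_apply, ihn, hf]
        exact Transfer.hasNormalPComplement_of_equiv (hlin L' hfix)
          (Subgroup.equivSMul (MulAut.conj c) L).symm
    · refine hlin L fun g hg g' _ => ?_
      rw [hom_eq_gen_pow Φ, hΦ]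
      have hdv : q ∣ g.right.toAdd.val := by
        by_contra hn
        refine hR (Subgroup.eq_top_of_le_card _ ?_)
        have hle : Subgroup.zpowers g.right ≤ L.map SemidirectProduct.rightHom :=
          Subgroup.zpowers_le.mpr ⟨g, hg, rfl⟩
        refine le_trans ?_ (Subgroup.card_le_of_le hle)
        rw [Nat.card_zpowers, hC]
        refine le_of_eq ?_
        conv_rhs => rw [← ofAdd_toAdd g.right, orderOf_ofAdd_eq_addOrderOf, ← ZMod.natCast_zmod_val (g.right.toAdd),
          ZMod.addOrderOf_coe _ (NeZero.ne (q ^ r))]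
        rw [Nat.Coprime.gcd_eq_one (Nat.Coprime.pow_left r ((Nat.Prime.coprime_iff_not_dvd h.hq).mpr hn)), Nat.div_one]
      obtain ⟨n, hn⟩ := hdv
      rw [hn, pow_mul, hθ, d.pow_q h hd, one_pow]
      rfl
  · obtain ⟨P', y, d', hy, htop, hd', hθ'⟩ := exists_datum h hr hX.1 hX.2 ht
    obtain ⟨ψ, hψs, hψθ, hψπ⟩ := exists_map h d hd hcard d' hd'
    obtain ⟨Y, hY⟩ := exists_hom y (hy ▸ pow_orderOf_eq_one y)
    have hψn : ∀ (n : ℕ) x, (ψ ((θ ^ n) x) : X) = y ^ n * ψ x * (y ^ n)⁻¹ := by
      intro n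
      induction n with
      | zero => intro x; simp
      | succ n ihn =>
        intro x
        rw [pow_succ', MulAut.mul_apply, hθ, hψθ, hθ', ← hθ, ihn, pow_succ' y]
        group
    let φ : P ⋊[Φ] Multiplicative (ZMod (q ^ r)) →* X :=
      SemidirectProduct.lift (P'.subtype.comp ψ) Y fun c => by
        refine MonoidHom.ext fun x => ?_
        show ((ψ (Φ c x) : P') : X) = Y c * ψ x * (Y c)⁻¹
        rw [hom_eq_gen_pow Φ, hom_eq_gen_pow Y, hΦ, hY, hψn]
    refine ⟨φ, ?_, fun g hg => ?_⟩
    · rw [← MonoidHom.range_eq_top, eq_top_iff, ← htop, sup_le_iff, Subgroup.zpowers_le]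
      refine ⟨fun x hx => ?_, ⟨SemidirectProduct.inr gen, by rw [SemidirectProduct.lift_inr, hY]⟩⟩
      obtain ⟨w, hw⟩ := hψs ⟨x, hx⟩
      exact ⟨SemidirectProduct.inl w, by rw [SemidirectProduct.lift_inl, MonoidHom.comp_apply, hw]; rfl⟩
    · have hg' : (ψ g.left : X) * Y g.right = 1 := hg
      have hYc : Y g.right = 1 := by
        refine orderOf_eq_one_iff.mp ?_
        have h1 : orderOf (Y g.right) ∣ q ^ r := by
          exact ((orderOf_map_dvd Y _).trans (orderOf_dvd_natCard _)).trans hC.dvd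
        have h2 : orderOf (Y g.right) ∣ p ^ bnd a := by
          rw [eq_inv_of_mul_eq_one_right hg', orderOf_inv, Subgroup.orderOf_coe, ← hcard]
          exact (orderOf_map_dvd ψ _).trans (orderOf_dvd_natCard _)
        exact Nat.eq_one_of_dvd_coprimes
          (Nat.Coprime.pow r (bnd a) ((Nat.coprime_primes h.hq h.hp).mpr h.hpq.symm)) h1 h2
      have hr1 : g.right = 1 := by
        have := hYc
        rw [hom_eq_gen_pow Y, hY, ← orderOf_dvd_iff_pow_eq_one, hy] at this
        have hv : g.right.toAdd.val = 0 := Nat.eq_zero_of_dvd_of_lt this (ZMod.val_lt _)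
        exact Multiplicative.toAdd.injective ((ZMod.val_eq_zero _).mp hv)
      rw [hYc, mul_one] at hg'
      have hπ1 : d.π g.left = 1 := by
        rw [← hψπ, show ψ g.left = 1 from Subtype.ext hg', map_one]
      obtain ⟨hc1, hf1⟩ := d.central _ hπ1
      rw [Subgroup.mem_center_iff]
      intro u
      refine SemidirectProduct.ext ?_ ?_
      · have hfix : Φ u.right g.left = g.left := by
          rw [hom_eq_gen_pow Φ, hΦ]
          induction u.right.toAdd.val with
          | zero => rfl
          | succ n ihn => rw [pow_succ', MulAut.mul_apply, ihn, hθ, hf1]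
        rw [SemidirectProduct.mul_left, SemidirectProduct.mul_left, hr1, map_one, hfix, MulAut.one_apply]
        exact Subgroup.mem_center_iff.mp hc1 u.left
      · rw [SemidirectProduct.mul_right, SemidirectProduct.mul_right, hr1, one_mul, mul_one]

end Cfsg.Agent.SchmidtUniversal
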